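import Cfsg.Agent.Lib.CosetEnum.Pack

/-!
Checks over a range, proved piece by piece.
-/

set_option autoImplicit false

namespace Cfsg.Agent.RuLattice

open Cfsg.Agent.CosetEnum

/-- A check over adjacent ranges is a check over their union. -/
theorem allRange_append {p : ℕ → Bool} : ∀ {a m n : ℕ}, allRange p a m = true →
    allRange p (a + m) n = true → allRange p a (m + n) = true
  | a, 0, n, _, h2 => by simpa using h2
  | a, m + 1, n, h1, h2 => by
    rw [show m + 1 + n = (m + n) + 1 by omega]
    change Bool.rec (motive := fun _ => Bool) false (allRange p (a + 1) m) (p a) = true at h1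
    change Bool.rec (motive := fun _ => Bool) false (allRange p (a + 1) (m + n)) (p a) = true
    cases hp : p a with
    | false => rw [hp] at h1; exact absurd h1 (by simp)
    | true =>
      rw [hp] at h1
      exact allRange_append h1 (by rw [show a + 1 + m = a + (m + 1) by omega]; exact h2)

/-- Seven adjacent ranges of equal length. -/
theorem allRange_seven {p : ℕ → Bool} {a m : ℕ} (h0 : allRange p a m = true)
    (h1 : allRange p (a + m) m = true) (h2 : allRange p (a + (m + m)) m = true)
    (h3 : allRange p (a + (m + m + m)) m = true) (h4 : allRange p (a + (m + m + m + m)) m = true)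
    (h5 : allRange p (a + (m + m + m + m + m)) m = true)
    (h6 : allRange p (a + (m + m + m + m + m + m)) m = true) :
    allRange p a (m + m + m + m + m + m + m) = true :=
  allRange_append (allRange_append (allRange_append (allRange_append (allRange_append
    (allRange_append h0 h1) h2) h3) h4) h5) h6

/-- Eight adjacent ranges of equal length. -/
theorem allRange_eight {p : ℕ → Bool} {a m : ℕ} (h0 : allRange p a m = true)
    (h1 : allRange p (a + m) m = true) (h2 : allRange p (a + (m + m)) m = true)
    (h3 : allRange p (a + (m + m + m)) m = true) (h4 : allRange p (a + (m + m + m + m)) m = true)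
    (h5 : allRange p (a + (m + m + m + m + m)) m = true)
    (h6 : allRange p (a + (m + m + m + m + m + m)) m = true)
    (h7 : allRange p (a + (m + m + m + m + m + m + m)) m = true) :
    allRange p a (m + m + m + m + m + m + m + m) = true :=
  allRange_append (allRange_seven h0 h1 h2 h3 h4 h5 h6) h7

end Cfsg.Agent.RuLattice
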