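import Cfsg.Agent.RuLattice.ChainCheck
import Cfsg.Agent.SporB.Ru.Main

/-!
The automorphism group of the graph is the group generated by the two letters.
-/

set_option autoImplicit false
set_option maxRecDepth 100000

namespace Cfsg.Agent.RuLattice

open Cfsg.Agent.CosetEnum Cfsg.Agent.SporB.Ru

theorem card_autG_le : Nat.card (autG rows) ≤ 145926144000 := by
  have h1 := card_fixG_le chain1_ok
  have h2 := card_fixG_le chain2_ok
  have h3 := card_fixG_le chain3_ok
  have h4 := card_fixG_le chain4_ok
  have h5 := card_fixG_le chain5_ok
  have h6 := card_fixG_le chain6_ok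
  have h7 := card_fixG_le chain7_ok
  have h8 := card_fixG_le chain8_ok
  have h9 := card_fixG_le chain9_ok
  have h10 := card_fixG_le chain10_ok
  have h11 := card_fixG_le chain11_ok
  have h12 := card_fixG_le chain12_ok
  have h13 := card_fixG_le chain13_ok
  have h14 := card_fixG_le chain14_ok
  have h15 := card_fixG_le chain15_ok
  have h16 := card_fixG_le chain16_ok
  have h17 := card_fixG_le chain17_ok
  have h18 := card_fixG_le chain18_ok
  have h19 := card_fixG_le chain19_ok
  have hb : Nat.card (fixG (24 :: chain19.1)) = 1 := by
    rw [fixG_eq_bot (by decide +kernel) chainEnd_ok, Subgroup.card_bot]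
  have h0 : Nat.card (autG rows) ≤ 4060 * Nat.card (fixG [0]) := by
    have e : fixG [0] = autG rows ⊓ MulAction.stabilizer (Equiv.Perm Pt) (0 : Pt) := by
      rw [fixG, dif_pos (by norm_num)]
      rfl
    have hidx := Subgroup.card_mul_index (MulAction.stabilizer (autG rows) (0 : Pt))
    rw [MulAction.index_stabilizer] at hidx
    have hst : Nat.card (MulAction.stabilizer (autG rows) (0 : Pt)) = Nat.card (fixG [0]) := by
      rw [e]
      exact Nat.card_congr
        { toFun := fun g => ⟨g.1.1, g.1.2, g.2⟩
          invFun := fun g => ⟨⟨g.1, g.2.1⟩, g.2.2⟩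
          left_inv := fun g => rfl
          right_inv := fun g => rfl }
    rw [← hidx, hst, Nat.mul_comm 4060]
    refine Nat.mul_le_mul_left _ ?_
    have := Set.ncard_le_card (MulAction.orbit (autG rows) (0 : Pt))
    rwa [Nat.card_eq_fintype_card, Fintype.card_fin] at this
  simp only [chain1, chain2, chain3, chain4, chain5, chain6, chain7, chain8, chain9, chain10, chain11,
    chain12, chain13, chain14, chain15, chain16, chain17, chain18, chain19, List.length_cons,
    List.length_nil] at *
  omega

theorem autG_eq : autG rows = sg [0, 2] := by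
  refine (Subgroup.eq_of_le_of_card_ge (sg_le fun l hl => ?_) ?_).symm
  · rcases list_cases2 hl with rfl | rfl
    · exact mem_autG lettersOK (by decide) net0_ok rows0_ok
    · exact mem_autG lettersOK (by decide) net2_ok rows2_ok
  · rw [g0_step.1]; exact card_autG_le

end Cfsg.Agent.RuLattice
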