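import Mathlib
import Cfsg.Agent.Lib.CosetEnum.Pack

/-!
Counting set bits below a bound, by clearing the lowest one.
-/

set_option autoImplicit false

namespace Cfsg.Agent.RuLattice

open Cfsg.Agent.CosetEnum

/-- The number of set bits below `n`. -/
def cnt (n r : ℕ) : ℕ := ∑ i : Fin n, if r.testBit i.val then 1 else 0

theorem cnt_succ (n r : ℕ) : cnt (n + 1) r = cnt n (r / 2) + r % 2 := by
  rw [cnt, Fin.sum_univ_succ, add_comm, cnt]
  congr 1
  · simp [Nat.testBit_succ]
  · rcases Nat.mod_two_eq_zero_or_one r with h | h <;> simp [Nat.testBit_zero, h]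

theorem cnt_zero_right : ∀ n : ℕ, cnt n 0 = 0
  | 0 => rfl
  | n + 1 => by rw [cnt_succ, Nat.zero_div, cnt_zero_right n]

theorem cnt_clear : ∀ n r : ℕ, r ≠ 0 → r < 2 ^ n → cnt n (r &&& (r - 1)) + 1 = cnt n r
  | 0, r, h, h' => by simp at h'; omega
  | n + 1, r, h, h' => by
    rw [cnt_succ, cnt_succ, Nat.and_div_two]
    have e1 : (r &&& (r - 1)) % 2 = 0 := by
      have h2 : decide ((r &&& (r - 1)) % 2 = 1) = (decide (r % 2 = 1) && decide ((r - 1) % 2 = 1)) := by
        rw [← Nat.testBit_zero, ← Nat.testBit_zero, ← Nat.testBit_zero, Nat.testBit_and]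
      have h3 : ¬ (r &&& (r - 1)) % 2 = 1 := fun e => by
        rw [decide_eq_true e] at h2
        simp only [Bool.true_eq, Bool.and_eq_true, decide_eq_true_eq] at h2
        omega
      omega
    rcases Nat.mod_two_eq_zero_or_one r with e | e
    · rw [show (r - 1) / 2 = r / 2 - 1 by omega, e1, e,
        ← cnt_clear n (r / 2) (by omega) (by rw [pow_succ] at h'; omega)]
    · rw [show (r - 1) / 2 = r / 2 by omega, Nat.and_self, e1, e]

/-- Count at most `k` set bits, on top of an evaluated total. -/
noncomputable def pcA (k : ℕ) : ℕ → ℕ → ℕ :=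
  Nat.rec (motive := fun _ => ℕ → ℕ → ℕ) (fun _ a => a)
    (fun _ ih r a => forceNat r fun r => bif Nat.beq r 0 then a
      else forceNat (Nat.add a 1) (ih (Nat.land r (Nat.sub r 1)))) k

/-- Count at most `k` set bits. -/
noncomputable def pcF (k r : ℕ) : ℕ := pcA k r 0

theorem pcA_succ (k r a : ℕ) :
    pcA (k + 1) r a = if r = 0 then a else pcA k (r &&& (r - 1)) (a + 1) := by
  show forceNat r (fun r => bif Nat.beq r 0 then a
    else forceNat (Nat.add a 1) (pcA k (Nat.land r (Nat.sub r 1)))) = _
  rw [forceNat_eq]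
  by_cases h : r = 0
  · subst h; rfl
  · rw [if_neg h, show Nat.beq r 0 = false from (by cases r <;> simp_all [Nat.beq]), cond_false,
      forceNat_eq]
    rfl

theorem pcA_eq : ∀ (k n r a : ℕ), r < 2 ^ n → pcA k r a = a + min k (cnt n r)
  | 0, n, r, a, _ => by simp [pcA]
  | k + 1, n, r, a, h => by
    rw [pcA_succ]
    by_cases h0 : r = 0
    · subst h0; simp [cnt_zero_right]
    · rw [if_neg h0, pcA_eq k n _ _ (lt_of_le_of_lt Nat.and_le_left h), ← cnt_clear n r h0 h]
      omega

theorem pcF_eq (k n r : ℕ) (h : r < 2 ^ n) : pcF k r = min k (cnt n r) := by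
  rw [pcF, pcA_eq k n r 0 h, Nat.zero_add]

theorem cnt_add : ∀ a b r : ℕ, cnt (a + b) r = cnt a r + cnt b (r / 2 ^ a)
  | 0, b, r => by
    rw [Nat.zero_add, show cnt 0 r = 0 from rfl, pow_zero, Nat.div_one, Nat.zero_add]
  | a + 1, b, r => by
    rw [show a + 1 + b = (a + b) + 1 by omega, cnt_succ, cnt_succ, cnt_add a b (r / 2),
      Nat.div_div_eq_div_mul, ← pow_succ']
    omega

theorem cnt_mod (n r : ℕ) : cnt n (r % 2 ^ n) = cnt n r :=
  Fintype.sum_congr _ _ fun i => by rw [Nat.testBit_mod_two_pow, decide_eq_true i.isLt, Bool.true_and]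

/-- Count the set bits below `w * j`, block by block. -/
noncomputable def pcW (w j : ℕ) : ℕ → ℕ :=
  Nat.rec (motive := fun _ => ℕ → ℕ) (fun _ => 0)
    (fun _ ih r => forceNat r fun r => forceNat (pcA w (Nat.mod r (Nat.pow 2 w)) 0) fun c =>
      forceNat (ih (Nat.shiftRight r w)) fun d => Nat.add c d) j

theorem pcW_eq (w : ℕ) : ∀ j r : ℕ, pcW w j r = cnt (w * j) r
  | 0, r => by simp [pcW, cnt]
  | j + 1, r => by
    show forceNat r (fun r => forceNat (pcA w (Nat.mod r (Nat.pow 2 w)) 0) fun c =>
      forceNat (pcW w j (Nat.shiftRight r w)) fun d => Nat.add c d) = _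
    simp only [forceNat_eq]
    show pcA w (r % 2 ^ w) 0 + pcW w j (r >>> w) = _
    rw [pcW_eq w j, pcA_eq w w _ _ (Nat.mod_lt _ (Nat.two_pow_pos w)), cnt_mod,
      Nat.shiftRight_eq_div_pow, show w * (j + 1) = w + w * j by ring, cnt_add]
    have : cnt w r ≤ w := by
      refine (Finset.sum_le_sum (g := fun _ => (1 : ℕ)) fun i _ => by split <;> omega).trans ?_
      simp
    omega

/-- A search tree. -/
inductive KTree where
  | leaf : KTree
  | node : KTree → ℕ → KTree → KTree

/-- Search. -/
def find : KTree → ℕ → Bool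
  | .leaf, _ => false
  | .node l y r, x => if Nat.blt x y then find l x else if Nat.blt y x then find r x else true

/-- Insertion. -/
def ins : KTree → ℕ → KTree
  | .leaf, x => .node .leaf x .leaf
  | .node l y r, x =>
    if Nat.blt x y then .node (ins l x) y r else if Nat.blt y x then .node l y (ins r x)
    else .node l y r

/-- No repetition. -/
def distinctB : List ℕ → KTree → Bool
  | [], _ => true
  | x :: xs, t => !find t x && distinctB xs (ins t x)

theorem find_ins_self : ∀ (t : KTree) (x : ℕ), find (ins t x) x = true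
  | .leaf, x => by simp [ins, find]
  | .node l y r, x => by
    unfold ins
    split_ifs with h h' <;> simp [find, find_ins_self, *]

theorem find_ins : ∀ (t : KTree) (x z : ℕ), find t z = true → find (ins t x) z = true
  | .leaf, x, z, h => by simp [find] at h
  | .node l y r, x, z, h => by
    unfold ins
    unfold find at h
    split_ifs with h1 h2 <;> unfold find <;> split_ifs at h ⊢ <;>
      first
        | exact find_ins _ _ _ h
        | exact h
        | rfl

theorem distinctB_spec : ∀ (L : List ℕ) (t : KTree), distinctB L t = true →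
    L.Nodup ∧ ∀ x ∈ L, find t x = false
  | [], _, _ => by simp
  | x :: xs, t, h => by
    simp only [distinctB, Bool.and_eq_true, Bool.not_eq_true'] at h
    obtain ⟨h1, h2⟩ := distinctB_spec xs _ h.2
    refine ⟨List.nodup_cons.2 ⟨fun hx => ?_, h1⟩, ?_⟩
    · exact absurd (find_ins_self t x) (by simp [h2 x hx])
    · intro z hz
      rcases List.mem_cons.1 hz with rfl | hz
      · exact h.1
      · exact Bool.eq_false_iff.2 fun e => absurd (find_ins t x z e) (by simp [h2 z hz])

end Cfsg.Agent.RuLattice
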