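import Cfsg.Agent.RuLattice.Closed
import Cfsg.Agent.RuLattice.BitCount
import Cfsg.Agent.SporB.Ru.Data.Lines

/-!
The 4060 tabulated vectors and their multiples by the units.
-/

set_option autoImplicit false

namespace Cfsg.Agent.RuLattice

open Cfsg.Agent.CosetEnum

/-- The packed vector of a point. -/
def lineN (i : ℕ) : ℕ := ((SporB.Ru.LineData.lineV).getD (i / 256) []).getD (i % 256) 0

/-- A packed coordinate. -/
def nib (N k : ℕ) : ℕ := N >>> (4 * k) &&& 15

/-- Coordinates of the vectors a unit times a packed vector, shifted by 8. -/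
def unitN (N e k : ℕ) : ℕ :=
  match e with
  | 0 => nib N k
  | 1 => bif Nat.beq (k % 2) 0 then 16 - nib N (k + 1) else nib N (k - 1)
  | 2 => 16 - nib N k
  | _ => bif Nat.beq (k % 2) 0 then nib N (k + 1) else 16 - nib N (k - 1)

/-- A unit times a packed vector. -/
def unitV (N e : ℕ) : Vec := fun k => (unitN N e k.val : ℤ) - 8

/-- The vector of a point. -/
def lineX (i : ℕ) : Vec := unitV (lineN i) 0

theorem nib_le (N k : ℕ) : nib N k ≤ 15 := Nat.and_le_right

theorem place_val : ∀ k : Fin 56, (place k).2.2.val = k.val % 2 ∧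
    posn (place k).1 (place k).2.1 (place k).2.2 = k ∧
    (posn (place k).1 (place k).2.1 0).val = k.val - k.val % 2 ∧
    (posn (place k).1 (place k).2.1 1).val = k.val - k.val % 2 + 1 := by decide +kernel

theorem mapI_apply (x : Vec) (k : Fin 56) : mapI x k = if k.val % 2 = 0
    then -x (posn (place k).1 (place k).2.1 1) else x (posn (place k).1 (place k).2.1 0) := by
  obtain ⟨h, -⟩ := place_val k
  show (match place k with
    | (n, t, 0) => -x (posn n t 1)
    | (n, t, 1) => x (posn n t 0)) = _
  generalize hp : place k = p at h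
  obtain ⟨n, t, b⟩ := p
  fin_cases b <;> simp at h ⊢ <;> simp [← h]

theorem mapI_unitV (N : ℕ) {e : ℕ} (he : e < 4) : mapI (unitV N e) = unitV N ((e + 1) % 4) := by
  funext k
  rw [mapI_apply]
  obtain ⟨-, -, h0, h1⟩ := place_val k
  simp only [unitV]
  rw [h0, h1]
  have hk := k.2
  have hn := fun j => nib_le N j
  rcases Nat.mod_two_eq_zero_or_one k.val with h | h
  · rw [if_pos h]
    have hb : Nat.beq (k.val % 2) 0 = true := by rw [h]; rfl
    have hb1 : Nat.beq ((k.val + 1) % 2) 0 = false := by
      rw [show (k.val + 1) % 2 = 1 by omega]; rfl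
    rw [h, Nat.sub_zero]
    interval_cases e <;>
      simp only [unitN, Nat.reduceAdd, Nat.reduceMod, hb, hb1, cond_true, cond_false,
        Nat.add_sub_cancel] <;>
      (have := hn k.val; have := hn (k.val + 1); omega)
  · rw [if_neg (by omega)]
    have hb : Nat.beq (k.val % 2) 0 = false := by rw [h]; rfl
    have hb1 : Nat.beq ((k.val - 1) % 2) 0 = true := by
      rw [show (k.val - 1) % 2 = 0 by omega]; rfl
    rw [h]
    interval_cases e <;>
      simp only [unitN, Nat.reduceAdd, Nat.reduceMod, hb, hb1, cond_true, cond_false,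
        show k.val - 1 + 1 = k.val by omega] <;>
      (have := hn k.val; have := hn (k.val - 1); omega)

end Cfsg.Agent.RuLattice
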