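import Cfsg.Agent.RuLattice.BitCount
import Cfsg.Agent.RuLattice.ChainData
import Cfsg.Agent.SporB.Ru.Graph
import Cfsg.Agent.SporB.Ru.Data.Adj

/-!
An automorphism of an adjacency table fixing points keeps adjacency profiles and common neighbour counts.
-/

set_option autoImplicit false
set_option maxRecDepth 100000
set_option exponentiation.threshold 10000

namespace Cfsg.Agent.RuLattice

open Cfsg.Agent.CosetEnum Cfsg.Agent.SporB.Ru

/-- All points. -/
def fullMask : ℕ := 2 ^ 4060 - 1

theorem fullMask_testBit {x : ℕ} (hx : x < 4060) : fullMask.testBit x = true := by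
  rw [fullMask, Nat.testBit_two_pow_sub_one, decide_eq_true hx]

attribute [local irreducible] fullMask
attribute [local irreducible] rows look

/-- Points with the adjacency profile of `b` against a list. -/
noncomputable def maskOf (F : List ℕ) (b : ℕ) : ℕ :=
  List.rec (motive := fun _ => ℕ) fullMask
    (fun p _ ih => forceNat (look rows p 0) fun r =>
      Nat.land ih (bif adj rows p b then r else Nat.xor fullMask r)) F

/-- The common neighbours of `x` and a list. -/
noncomputable def common (S : List ℕ) (x : ℕ) : ℕ :=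
  List.rec (motive := fun _ => ℕ) (look rows x 0)
    (fun p _ ih => Nat.land (look rows p 0) ih) S

theorem common_nil (x : ℕ) : common [] x = look rows x 0 := rfl

theorem common_cons (p : ℕ) (S : List ℕ) (x : ℕ) :
    common (p :: S) x = look rows p 0 &&& common S x := rfl

theorem common_testBit (S : List ℕ) (x y : ℕ) :
    (common S x).testBit y = (adj rows x y && S.all fun p => adj rows p y) := by
  induction S with
  | nil => simp [common_nil, adj]
  | cons p S ih =>
    rw [common_cons, Nat.testBit_and, ih, List.all_cons, adj, adj]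
    simp only [Bool.and_left_comm]

theorem maskOf_testBit {b x : ℕ} (hx : x < 4060) : ∀ F : List ℕ,
    (maskOf F b).testBit x = F.all fun p => adj rows p x == adj rows p b
  | [] => by
    show fullMask.testBit x = true
    exact fullMask_testBit hx
  | p :: F => by
    show (forceNat (look rows p 0) fun r => Nat.land (maskOf F b)
      (bif adj rows p b then r else Nat.xor fullMask r)).testBit x = _
    rw [forceNat_eq]
    show (maskOf F b &&& _).testBit x = _
    rw [Nat.testBit_and, maskOf_testBit hx F, List.all_cons, Bool.and_comm]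
    congr 1
    cases h : adj rows p b
    · show (fullMask ^^^ look rows p 0).testBit x = _
      rw [Nat.testBit_xor, fullMask_testBit hx, adj]
      cases (look rows p 0).testBit x <;> rfl
    · show (look rows p 0).testBit x = _
      rw [adj]
      cases (look rows p 0).testBit x <;> rfl

/-- One step of the chain. -/
noncomputable def stepOK (d : List ℕ × List (List ℕ) × ℕ × List ℕ) : Bool :=
  Nat.blt d.2.2.1 4060 && !d.1.contains d.2.2.1 &&
    d.1.all (fun p => Nat.blt p 4060) && d.2.1.all (fun S => S.all fun p => d.1.contains p) &&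
    forceNat (maskOf d.1 d.2.2.1) fun M =>
      allRange (fun x => bif M.testBit x then
        (d.2.2.2.contains x || d.1.contains x ||
          !(d.2.1.all fun S => Nat.beq (pcW 58 70 (common S x)) (pcW 58 70 (common S d.2.2.1))))
        else true) 0 4060

/-- The automorphisms fixing a list. -/
def fixG : List ℕ → Subgroup (Equiv.Perm Pt)
  | [] => autG rows
  | p :: F => if h : p < 4060 then fixG F ⊓ MulAction.stabilizer (Equiv.Perm Pt) (⟨p, h⟩ : Pt)
      else fixG F

theorem mem_fixG : ∀ {F : List ℕ} {g : Equiv.Perm Pt}, g ∈ fixG F →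
    g ∈ autG rows ∧ ∀ p ∈ F, ∀ i : Pt, i.val = p → g i = i
  | [], g, h => ⟨h, fun p hp => absurd hp (List.not_mem_nil)⟩
  | p :: F, g, h => by
    by_cases hp : p < 4060
    · rw [fixG, dif_pos hp] at h
      obtain ⟨h1, h2⟩ := mem_fixG h.1
      refine ⟨h1, fun q hq i hi => ?_⟩
      rcases List.mem_cons.1 hq with rfl | hq
      · have h3 : g ⟨q, hp⟩ = ⟨q, hp⟩ := h.2
        rwa [show i = ⟨q, hp⟩ from Fin.ext hi]
      · exact h2 q hq i hi
    · rw [fixG, dif_neg hp] at h
      obtain ⟨h1, h2⟩ := mem_fixG h
      refine ⟨h1, fun q hq i hi => ?_⟩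
      rcases List.mem_cons.1 hq with rfl | hq
      · exact absurd i.2 (hi ▸ hp)
      · exact h2 q hq i hi

variable {F : List ℕ} {g : Equiv.Perm Pt}

theorem adj_fix (hg : g ∈ fixG F) {p : ℕ} (hp : p ∈ F) (hp' : p < 4060) (i : Pt) :
    adj rows p (g i : Pt) = adj rows p i := by
  obtain ⟨h1, h2⟩ := mem_fixG hg
  have e := h1 ⟨p, hp'⟩ i
  rwa [h2 p hp ⟨p, hp'⟩ rfl] at e

theorem cnt_common (hF : ∀ p ∈ F, p < 4060) (hg : g ∈ fixG F) {S : List ℕ}
    (hS : ∀ p ∈ S, p ∈ F) (i : Pt) :
    pcW 58 70 (common S (g i : Pt)) = pcW 58 70 (common S i) := by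
  rw [pcW_eq, pcW_eq, show 58 * 70 = 4060 from rfl]
  simp only [cnt]
  refine (Fintype.sum_equiv g _ _ fun y => ?_).symm
  rw [common_testBit, common_testBit, (mem_fixG hg).1 i y]
  have e : (S.all fun p => adj rows p (g y : Pt)) = S.all fun p => adj rows p y := by
    rw [Bool.eq_iff_iff, List.all_eq_true, List.all_eq_true]
    exact forall₂_congr fun p hp => by rw [adj_fix hg (hS p hp) (hF p (hS p hp))]
  rw [e]

theorem card_fixG_le {d : List ℕ × List (List ℕ) × ℕ × List ℕ}
    (h : stepOK d = true) :
    Nat.card (fixG d.1) ≤ d.2.2.2.length * Nat.card (fixG (d.2.2.1 :: d.1)) := by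
  classical
  obtain ⟨F, SS, b, C⟩ := d
  simp only [stepOK, forceNat_eq, Bool.and_eq_true, List.all_eq_true] at h
  obtain ⟨⟨⟨⟨hb, hbF⟩, hF⟩, hSS⟩, hall⟩ := h
  have hb : b < 4060 := Nat.le_of_ble_eq_true hb
  have hF : ∀ p ∈ F, p < 4060 := fun p hp => Nat.le_of_ble_eq_true (hF p hp)
  show Nat.card (fixG F) ≤ C.length * Nat.card (fixG (b :: F))
  rw [fixG, dif_pos hb]
  set K := fixG F
  set b' : Pt := ⟨b, hb⟩
  have horb : (MulAction.orbit K b').ncard ≤ C.length := by
    have hsub : (fun x : Pt => x.val) '' MulAction.orbit K b' ⊆ (C.toFinset : Set ℕ) := by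
      rintro _ ⟨_, ⟨⟨g, hg⟩, rfl⟩, rfl⟩
      have hm : (maskOf F b).testBit (g b' : Pt) = true := by
        rw [maskOf_testBit (g b').2, List.all_eq_true]
        intro p hp
        rw [adj_fix hg hp (hF p hp), beq_iff_eq]
      have hx := allRange_spec hall (g b' : Pt) (Nat.zero_le _) (by omega)
      rw [hm, cond_true] at hx
      simp only [Bool.or_eq_true, List.contains_iff_mem, Bool.not_eq_true'] at hx
      rw [Finset.mem_coe, List.mem_toFinset]
      show ((g b' : Pt) : ℕ) ∈ C
      rcases hx with (hx | hx) | hx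
      · exact hx
      · exfalso
        have e := (mem_fixG hg).2 _ hx (g b') rfl
        have e' : g b' = b' := g.injective e
        rw [e'] at hx
        simp [List.contains_iff_mem, b', hx] at hbF
      · exfalso
        refine Bool.eq_false_iff.1 hx (List.all_eq_true.2 fun S hS => ?_)
        have hS' : ∀ p ∈ S, p ∈ F := fun p hp => List.contains_iff_mem.1 (hSS S hS p hp)
        rw [cnt_common hF hg hS' b']
        exact Nat.beq_refl _
    have := Set.ncard_le_ncard hsub (Finset.finite_toSet _)
    rw [Set.ncard_image_of_injective _ Fin.val_injective, Set.ncard_coe_finset] at this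
    exact this.trans (List.toFinset_card_le _)
  have hidx := Subgroup.card_mul_index (MulAction.stabilizer K b')
  rw [MulAction.index_stabilizer] at hidx
  have hst : Nat.card (MulAction.stabilizer K b') =
      Nat.card ↥(K ⊓ MulAction.stabilizer (Equiv.Perm Pt) b') :=
    Nat.card_congr
      { toFun := fun g => ⟨g.1.1, g.1.2, g.2⟩
        invFun := fun g => ⟨⟨g.1, g.2.1⟩, g.2.2⟩
        left_inv := fun g => rfl
        right_inv := fun g => rfl }
  rw [← hidx, hst, Nat.mul_comm C.length]
  exact Nat.mul_le_mul_left _ horb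

/-- The adjacency code of a point against a list. -/
def code (F : List ℕ) (x : ℕ) : ℕ :=
  F.foldl (fun acc p => 4 * acc + (bif adj rows p x then 2 else 0) + (bif Nat.beq x p then 1 else 0)) 0

theorem code_fix (hF : ∀ p ∈ F, p < 4060) (hg : g ∈ fixG F) (i : Pt) :
    code F (g i : Pt) = code F i := by
  unfold code
  suffices ∀ (l : List ℕ), (∀ p ∈ l, p ∈ F) → ∀ acc : ℕ,
      l.foldl (fun acc p => 4 * acc + (bif adj rows p (g i : Pt) then 2 else 0) +
        (bif Nat.beq (g i : Pt) p then 1 else 0)) acc =
      l.foldl (fun acc p => 4 * acc + (bif adj rows p i then 2 else 0) +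
        (bif Nat.beq i p then 1 else 0)) acc from this F (fun _ h => h) 0
  intro l
  induction l with
  | nil => intros; rfl
  | cons p l ih =>
    intro hl acc
    have hp := hl p List.mem_cons_self
    have hp' := hF p hp
    have hfx : g ⟨p, hp'⟩ = ⟨p, hp'⟩ := (mem_fixG hg).2 p hp _ rfl
    have e2 : Nat.beq (g i : Pt) p = Nat.beq i p := by
      rw [Bool.eq_iff_iff]
      constructor <;> intro e <;> have e := Nat.eq_of_beq_eq_true e
      · have : g i = g ⟨p, hp'⟩ := by rw [hfx]; exact Fin.ext e
        rw [g.injective this]; exact Nat.beq_refl _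
      · rw [show i = ⟨p, hp'⟩ from Fin.ext e, hfx]; exact Nat.beq_refl _
    simp only [List.foldl_cons, adj_fix hg hp hp', e2]
    exact ih (fun q hq => hl q (List.mem_cons_of_mem _ hq)) _

theorem fixG_eq_bot (hF : ∀ p ∈ F, p < 4060)
    (h : distinctB ((List.range 4060).map (code F)) .leaf = true) : fixG F = ⊥ := by
  rw [Subgroup.eq_bot_iff_forall]
  intro g hg
  ext i
  have hn := List.inj_on_of_nodup_map (distinctB_spec _ _ h).1
  exact hn (List.mem_range.2 (g i).2) (List.mem_range.2 i.2) (code_fix hF hg i)

end Cfsg.Agent.RuLattice
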