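import Cfsg.Agent.RuLattice.ChainFast

/-!
Kernel checks of the base chain.
-/

set_option autoImplicit false
set_option Elab.async false
set_option maxRecDepth 100000

namespace Cfsg.Agent.RuLattice

theorem chain1_ok : stepOK chain1 = true := stepOK_of_fast (by decide +kernel)

theorem chain2_ok : stepOK chain2 = true := by decide +kernel

theorem chain3_ok : stepOK chain3 = true := by decide +kernel

theorem chain4_ok : stepOK chain4 = true := by decide +kernel

theorem chain5_ok : stepOK chain5 = true := by decide +kernel

theorem chain6_ok : stepOK chain6 = true := by decide +kernel

theorem chain7_ok : stepOK chain7 = true := by decide +kernel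

theorem chain8_ok : stepOK chain8 = true := by decide +kernel

theorem chain9_ok : stepOK chain9 = true := by decide +kernel

theorem chain10_ok : stepOK chain10 = true := by decide +kernel

theorem chain11_ok : stepOK chain11 = true := by decide +kernel

theorem chain12_ok : stepOK chain12 = true := by decide +kernel

theorem chain13_ok : stepOK chain13 = true := by decide +kernel

theorem chain14_ok : stepOK chain14 = true := by decide +kernel

theorem chain15_ok : stepOK chain15 = true := by decide +kernel

theorem chain16_ok : stepOK chain16 = true := by decide +kernel

theorem chain17_ok : stepOK chain17 = true := by decide +kernel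

theorem chain18_ok : stepOK chain18 = true := by decide +kernel

theorem chain19_ok : stepOK chain19 = true := by decide +kernel

theorem chainEnd_ok : distinctB ((List.range 4060).map (code (24 :: chain19.1))) .leaf = true := by
  decide +kernel

end Cfsg.Agent.RuLattice
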