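import Cfsg.Agent.RuLattice.Chain

/-!
A cheap check for a step of the chain whose candidates are all points with the given adjacency profile.
-/

set_option autoImplicit false
set_option maxRecDepth 100000
set_option exponentiation.threshold 10000

namespace Cfsg.Agent.RuLattice

open Cfsg.Agent.CosetEnum Cfsg.Agent.SporB.Ru

attribute [local irreducible] fullMask
attribute [local irreducible] rows look

/-- The mask of a list of points. -/
noncomputable def maskList (L : List ℕ) : ℕ :=
  List.rec (motive := fun _ => ℕ) 0 (fun c _ ih => Nat.lor (2 ^ c) ih) L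

theorem maskList_testBit {x : ℕ} : ∀ {L : List ℕ}, (maskList L).testBit x = true → x ∈ L
  | [], h => by simp [maskList] at h
  | c :: L, h => by
    change (2 ^ c ||| maskList L).testBit x = true at h
    rw [Nat.testBit_or, Bool.or_eq_true, Nat.testBit_two_pow, decide_eq_true_eq] at h
    exact h.elim (fun e => e ▸ List.mem_cons_self) fun e => List.mem_cons_of_mem _ (maskList_testBit e)

/-- A step in which the profile alone determines the candidates. -/
noncomputable def stepFast (d : List ℕ × List (List ℕ) × ℕ × List ℕ) : Bool :=
  Nat.blt d.2.2.1 4060 && !d.1.contains d.2.2.1 &&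
    d.1.all (fun p => Nat.blt p 4060) && d.2.1.all (fun S => S.all fun p => d.1.contains p) &&
    Nat.beq (Nat.land (maskOf d.1 d.2.2.1) (maskList d.2.2.2 ||| maskList d.1)) (maskOf d.1 d.2.2.1)

theorem stepOK_of_fast {d : List ℕ × List (List ℕ) × ℕ × List ℕ} (h : stepFast d = true) :
    stepOK d = true := by
  obtain ⟨F, SS, b, C⟩ := d
  simp only [stepFast, Bool.and_eq_true] at h
  obtain ⟨hguard, hm⟩ := h
  have hm := Nat.eq_of_beq_eq_true hm
  change maskOf F b &&& (maskList C ||| maskList F) = maskOf F b at hm
  simp only [stepOK, forceNat_eq, Bool.and_eq_true]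
  refine ⟨hguard, ?_⟩
  suffices ∀ (c a : ℕ) (p : ℕ → Bool), (∀ x, p x = true) → allRange p a c = true from this _ _ _ fun x => by
    cases hx : (maskOf F b).testBit x
    · rfl
    · rw [← hm, Nat.testBit_and, Bool.and_eq_true] at hx
      have h2 := hx.2
      rw [Nat.testBit_or, Bool.or_eq_true] at h2
      rcases h2 with e | e <;>
        simp [List.contains_iff_mem, maskList_testBit e]
  intro c
  induction c with
  | zero => intros; rfl
  | succ c ih =>
    intro a p hp
    show Bool.rec (motive := fun _ => Bool) false (allRange p (a + 1) c) (p a) = true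
    rw [hp a]
    exact ih (a + 1) p hp

end Cfsg.Agent.RuLattice
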