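import Cfsg.Agent.RuLattice.AllRange
import Cfsg.Agent.RuLattice.Line
import Cfsg.Agent.SporB.Ru.Data.Adj
import Cfsg.Agent.SporB.Ru.Graph

/-!
Facts about the first vector, the orthogonality row of the first point, and links between the coordinate vectors.
-/

set_option autoImplicit false
set_option Elab.async false
set_option maxRecDepth 100000

namespace Cfsg.Agent.RuLattice

open Cfsg.Agent.CosetEnum

theorem line_zero : ∀ k : Fin 56, lineX 0 k = if k = (54 : Fin 56) then 4 else 0 := by decide +kernel

/-- Orthogonality with the first point is read on the last two coordinates. -/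
noncomputable def row0OK (j : ℕ) : Bool :=
  forceNat (lineN j) fun N =>
    (SporB.Ru.adj SporB.Ru.rows 0 j == (Nat.beq (nib N 54) 8 && Nat.beq (nib N 55) 8)) &&
      (Nat.beq j 0 || (Nat.blt 6 (nib N 54) && Nat.blt (nib N 54) 10 &&
        Nat.blt 6 (nib N 55) && Nat.blt (nib N 55) 10))

theorem row0_piece0 : allRange row0OK 0 580 = true := by decide +kernel

theorem row0_piece1 : allRange row0OK 580 580 = true := by decide +kernel

theorem row0_piece2 : allRange row0OK 1160 580 = true := by decide +kernel

theorem row0_piece3 : allRange row0OK 1740 580 = true := by decide +kernel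

theorem row0_piece4 : allRange row0OK 2320 580 = true := by decide +kernel

theorem row0_piece5 : allRange row0OK 2900 580 = true := by decide +kernel

theorem row0_piece6 : allRange row0OK 3480 580 = true := by decide +kernel

theorem row0_ok : allRange row0OK 0 4060 = true :=
  (allRange_seven row0_piece0 row0_piece1 row0_piece2 row0_piece3 row0_piece4 row0_piece5 row0_piece6 :
    allRange row0OK 0 (580 + 580 + 580 + 580 + 580 + 580 + 580) = true)

/-- A point nonorthogonal to the first coordinate vector and to the coordinate vector of index `k`. -/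
def linkL : List ℕ := [1659, 1659, 1659, 1659, 1659, 1659, 1659, 1659, 1683, 1683, 1675, 1675, 1683, 1683,
  1675, 1675, 1659, 1659, 1659, 1659, 1683, 1675, 1675, 1683, 1659, 1659, 1659, 1659]

theorem link_ok : ∀ k : Fin 28, linkL.getD k.val 0 < 4060 ∧
    (nib (lineN (linkL.getD k.val 0)) 0 ≠ 8 ∨ nib (lineN (linkL.getD k.val 0)) 1 ≠ 8) ∧
    (nib (lineN (linkL.getD k.val 0)) (2 * k.val) ≠ 8 ∨
      nib (lineN (linkL.getD k.val 0)) (2 * k.val + 1) ≠ 8) := by decide +kernel

end Cfsg.Agent.RuLattice
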