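import Cfsg.Agent.RuLattice.Census.Words
import Cfsg.Agent.RuLattice.Census.Cases

/-!
Every vector of norm 16 of the lattice is a unit times one of the 4060 tabulated vectors.
-/

set_option autoImplicit false
set_option maxRecDepth 100000

namespace Cfsg.Agent.RuLattice

open Cfsg.Agent.CosetEnum

theorem colSums_nodup : colSums.Nodup := (distinctB_spec _ _ colSums_distinct).1

/-- The column of a position. -/
def col (a : Fin 56) : ℕ := colC.getD a.val 0

theorem colC_length : colC.length = 56 := by decide +kernel

theorem col_facts : Function.Injective col ∧ (∀ a, col a ≠ 0) ∧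
    (∀ a b c : Fin 56, b < a → col c ≠ col a ^^^ col b) ∧
    (∀ a b c d : Fin 56, b < a → d < c → col a ^^^ col b = col c ^^^ col d → a = c ∧ b = d) := by
  have h := colSums_nodup
  rw [colSums, List.cons_append, List.nodup_cons, List.nodup_append] at h
  obtain ⟨h0, hc, hp, hdis⟩ := h
  have mc : ∀ a : Fin 56, col a ∈ colC := fun a => by
    rw [col, List.getD_eq_getElem _ _ (by rw [colC_length]; exact a.isLt)]; exact List.getElem_mem _
  have mp : ∀ a b : Fin 56, b < a → col a ^^^ col b ∈
      (List.range 56).flatMap fun x => (List.range x).map fun y => colC.getD x 0 ^^^ colC.getD y 0 :=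
    fun a b hab => List.mem_flatMap.2 ⟨a.val, List.mem_range.2 a.isLt,
      List.mem_map.2 ⟨b.val, List.mem_range.2 hab, rfl⟩⟩
  refine ⟨fun a b e => ?_, fun a e => h0 (List.mem_append.2 (Or.inl (by rw [← e]; exact mc a))),
    fun a b c hab e => hdis _ (mc c) _ (mp a b hab) e, fun a b c d hab hcd e => ?_⟩
  · simp only [col] at e
    rw [List.getD_eq_getElem _ _ (by rw [colC_length]; exact a.isLt),
      List.getD_eq_getElem _ _ (by rw [colC_length]; exact b.isLt)] at e
    exact Fin.ext (hc.getElem_inj_iff.1 e)
  · rw [List.flatMap_def, List.nodup_flatten] at hp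
    obtain ⟨hp1, hp2⟩ := hp
    have hlist : ∀ a : Fin 56, ((List.range 56).map fun x =>
        (List.range x).map fun y => colC.getD x 0 ^^^ colC.getD y 0)[a.val]'(by simp) =
          (List.range a.val).map fun y => colC.getD a.val 0 ^^^ colC.getD y 0 := fun a => by simp
    by_cases hac : a = c
    · subst hac
      refine ⟨rfl, ?_⟩
      have hn := hp1 _ (List.mem_map.2 ⟨a.val, List.mem_range.2 a.isLt, rfl⟩)
      exact Fin.ext (List.inj_on_of_nodup_map hn (List.mem_range.2 hab) (List.mem_range.2 hcd) e)
    · exfalso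
      have m1 : col a ^^^ col b ∈ (List.range a.val).map fun y => colC.getD a.val 0 ^^^ colC.getD y 0 :=
        List.mem_map.2 ⟨b.val, List.mem_range.2 hab, rfl⟩
      have m2 : col a ^^^ col b ∈ (List.range c.val).map fun y => colC.getD c.val 0 ^^^ colC.getD y 0 :=
        List.mem_map.2 ⟨d.val, List.mem_range.2 hcd, e.symm⟩
      rw [List.pairwise_iff_getElem] at hp2
      rcases lt_or_gt_of_ne hac with hlt | hlt
      · have := hp2 a.val c.val (by simp) (by simp) hlt
        rw [hlist, hlist] at this
        exact this m1 m2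
      · have := hp2 c.val a.val (by simp) (by simp) hlt
        rw [hlist, hlist] at this
        exact this m2 m1

theorem col_testBit (a : Fin 56) (i : ℕ) :
    (col a).testBit i = (decide (i < 40) && (parM.getD i 0).testBit a.val) := by
  by_cases hi : i < 40
  · rw [decide_eq_true hi, Bool.true_and]; exact colC_spec ⟨i, hi⟩ a
  · rw [decide_eq_false hi, Bool.false_and]
    exact Nat.testBit_lt_two_pow ((colC_lt a).trans_le (Nat.pow_le_pow_right (by norm_num) (not_lt.1 hi)))

theorem xor_two_facts (a b : Fin 56) (h : a ≠ b) : col a ^^^ col b ≠ 0 := fun e => by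
  refine h (col_facts.1 ?_)
  have := congrArg (· ^^^ col b) e
  simpa [Nat.xor_assoc] using this

theorem xor_ne_col (a b c : Fin 56) (h : a ≠ b) : col a ^^^ col b ≠ col c := fun e => by
  rcases lt_or_gt_of_ne h with hl | hl
  · exact col_facts.2.2.1 b a c hl (by rw [Nat.xor_comm]; exact e.symm)
  · exact col_facts.2.2.1 a b c hl e.symm

theorem xor_ne_pair (a b c d : Fin 56) (hab : a ≠ b) (hcd : c ≠ d)
    (h1 : a ≠ c) (h2 : a ≠ d) : col a ^^^ col b ≠ col c ^^^ col d := fun e => by
  rcases lt_or_gt_of_ne hab with hl | hl <;> rcases lt_or_gt_of_ne hcd with hl' | hl'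
  · exact h1 (col_facts.2.2.2 b a d c hl hl' (by rw [Nat.xor_comm, e, Nat.xor_comm])).2
  · exact h2 (col_facts.2.2.2 b a c d hl hl' (by rw [Nat.xor_comm, e])).2
  · exact h2 (col_facts.2.2.2 a b d c hl hl' (by rw [e, Nat.xor_comm])).1
  · exact h1 (col_facts.2.2.2 a b c d hl hl' e).1

variable {x : Vec}

theorem two_parity (hx : x ∈ lat) (h0 : mask x = 0) (i : ℕ) (hi : i < 40) :
    (∑ k ∈ twoSet x, if (col k).testBit i then 1 else 0) % 2 = 0 := by
  have h := plane_parity hx ⟨i, hi⟩
  rw [halfOf, h0] at h
  simp only [Nat.zero_and, cnt_zero_right] at h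
  rw [cnt_and_two (by rw [h0, Nat.and_zero])] at h
  refine Eq.trans ?_ h
  congr 1
  refine Finset.sum_congr rfl fun k _ => ?_
  rw [col_testBit, decide_eq_true hi, Bool.true_and]

theorem zero_line (hx : x ∈ lat) (hn : dot x x = 16) (h0 : mask x = 0) :
    ∃ i < 4060, ∃ e < 4, x = unitV (lineN i) e := by
  have heven : ∀ k, x k % 2 = 0 := fun k => by
    have h := mask_testBit x k
    rw [h0, Nat.zero_testBit] at h
    simp at h
    omega
  have hcard := weight_two hn
  have par0 : ∀ (L : List (Fin 56)), L.Nodup → L.toFinset = twoSet x →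
      ∀ i < 40, (L.map fun k => if (col k).testBit i then 1 else 0).sum % 2 = 0 := fun L hL e i hi => by
    rw [← List.sum_toFinset _ hL, e]; exact two_parity hx h0 i hi
  have hbits : ∀ (z : ℕ), z < 2 ^ 40 → (∀ i < 40, z.testBit i = false) → z = 0 := fun z hz h =>
    Nat.eq_of_testBit_eq fun i => by
      rw [Nat.zero_testBit]
      by_cases hi : i < 40
      · exact h i hi
      · exact Nat.testBit_lt_two_pow (hz.trans_le (Nat.pow_le_pow_right (by norm_num) (not_lt.1 hi)))
  have hxlt : ∀ {u v : ℕ}, u < 2 ^ 40 → v < 2 ^ 40 → u ^^^ v < 2 ^ 40 := fun hu hv => Nat.xor_lt_two_pow hu hv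
  have hempty : twoSet x = ∅ := by
    have h4 : (twoSet x).card ≤ 4 := by omega
    rcases (show (twoSet x).card = 0 ∨ (twoSet x).card = 1 ∨ (twoSet x).card = 2 ∨
      (twoSet x).card = 3 ∨ (twoSet x).card = 4 by omega) with h | h | h | h | h
    · exact Finset.card_eq_zero.1 h
    · obtain ⟨a, ha⟩ := Finset.card_eq_one.1 h
      refine absurd (hbits (col a) (colC_lt a) fun i hi => ?_) (col_facts.2.1 a)
      have := par0 [a] (by simp) (by simp [ha]) i hi
      simp only [List.map_cons, List.map_nil, List.sum_cons, List.sum_nil] at this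
      revert this
      cases (col a).testBit i <;> simp
    · obtain ⟨a, b, hab, ha⟩ := Finset.card_eq_two.1 h
      refine absurd (hbits (col a ^^^ col b) (hxlt (colC_lt a) (colC_lt b)) fun i hi => ?_) (xor_two_facts a b hab)
      have := par0 [a, b] (by simp [hab]) (by simp [ha]) i hi
      rw [Nat.testBit_xor]
      simp only [List.map_cons, List.map_nil, List.sum_cons, List.sum_nil] at this
      revert this
      cases (col a).testBit i <;> cases (col b).testBit i <;> simp
    · obtain ⟨a, b, c, hab, hac, hbc, ha⟩ := Finset.card_eq_three.1 h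
      refine absurd (hbits (col a ^^^ col b ^^^ col c)
        (hxlt (hxlt (colC_lt a) (colC_lt b)) (colC_lt c)) fun i hi => ?_) fun e => xor_ne_col a b c hab ?_
      · have := par0 [a, b, c] (by simp [hab, hac, hbc]) (by simp [ha]) i hi
        rw [Nat.testBit_xor, Nat.testBit_xor]
        simp only [List.map_cons, List.map_nil, List.sum_cons, List.sum_nil] at this
        revert this
        cases (col a).testBit i <;> cases (col b).testBit i <;> cases (col c).testBit i <;> simp
      · have := congrArg (· ^^^ col c) e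
        simpa [Nat.xor_assoc] using this
    · obtain ⟨a, t, hat, ht, htc⟩ := Finset.card_eq_succ.1 h
      obtain ⟨b, c, d, hbc, hbd, hcd, hts⟩ := Finset.card_eq_three.1 htc
      subst hts
      simp only [Finset.mem_insert, Finset.mem_singleton, not_or] at hat
      refine absurd (hbits ((col a ^^^ col b) ^^^ (col c ^^^ col d))
        (hxlt (hxlt (colC_lt a) (colC_lt b)) (hxlt (colC_lt c) (colC_lt d))) fun i hi => ?_)
        fun e => xor_ne_pair a b c d hat.1 hcd hat.2.1 hat.2.2 ?_
      · have := par0 [a, b, c, d] (by simp [hat, hbc, hbd, hcd]) (by simp [← ht]) i hi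
        rw [Nat.testBit_xor, Nat.testBit_xor, Nat.testBit_xor]
        simp only [List.map_cons, List.map_nil, List.sum_cons, List.sum_nil] at this
        revert this
        cases (col a).testBit i <;> cases (col b).testBit i <;> cases (col c).testBit i <;>
          cases (col d).testBit i <;> simp
      · have := congrArg (· ^^^ (col c ^^^ col d)) e
        simpa [Nat.xor_assoc] using this
  have h4 : ∀ k, x k % 4 = 0 := fun k => by
    have := heven k
    have hk : k ∉ twoSet x := by rw [hempty]; simp
    simp [twoSet] at hk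
    omega
  obtain ⟨k, hk⟩ : ∃ k, x k ≠ 0 := by
    by_contra h
    push_neg at h
    simp [dot, h] at hn
  have hkk : 16 ≤ x k * x k := by
    have := h4 k
    rcases (show 4 ≤ x k ∨ x k ≤ -4 by omega) with h | h <;> nlinarith
  have hsplit := Finset.add_sum_erase Finset.univ (fun l => x l * x l) (Finset.mem_univ k)
  have hrest : 0 ≤ ∑ l ∈ Finset.univ.erase k, x l * x l := Finset.sum_nonneg fun l _ => mul_self_nonneg _
  have hn' : ∑ l, x l * x l = 16 := hn
  have hother : ∀ l, l ≠ k → x l = 0 := fun l hl => by
    have := Finset.single_le_sum (f := fun l => x l * x l) (fun l _ => mul_self_nonneg _)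
      (Finset.mem_erase.2 ⟨hl, Finset.mem_univ l⟩)
    exact mul_self_eq_zero.1 (le_antisymm (by omega) (mul_self_nonneg _))
  have hxk : x k = 4 ∨ x k = -4 := by
    have : x k * x k = 4 * 4 := by omega
    exact mul_self_eq_mul_self_iff.1 this
  have key : ∃ s : Fin 2, x k = if s.val = 0 then 4 else -4 :=
    hxk.elim (fun e => ⟨0, e⟩) fun e => ⟨1, e⟩
  obtain ⟨s, hs⟩ := key
  obtain ⟨hlt, hv⟩ := frameQ_spec k s
  refine ⟨_, hlt, frameQ.getD (2 * k.val + s.val) 16240 % 4, Nat.mod_lt _ (by norm_num), funext fun l => ?_⟩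
  rw [hv l]
  by_cases hl : l = k
  · rw [if_pos hl, hl, hs]
  · rw [if_neg hl, hother l hl]

/-- The vectors of norm 16 are the units times the tabulated vectors. -/
theorem norm16_line (hx : x ∈ lat) (hn : dot x x = 16) :
    ∃ i < 4060, ∃ e < 4, x = unitV (lineN i) e := by
  obtain ⟨c, hc⟩ := word_cert hx (cnt_mask_le hn)
  cases c with
  | zero => exact zero_line hx hn (Nat.eq_of_beq_eq_true hc)
  | eight cs => exact (eight_absurd hx hn hc).elim
  | empty c => exact (empty_absurd hx hn hc).elim
  | sol free pivs sols => exact sol_line hx hn hc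

end Cfsg.Agent.RuLattice
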