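import Cfsg.Agent.RuLattice.Letters
import Cfsg.Agent.RuLattice.LineChecks
import Cfsg.Agent.RuLattice.MinVec
import Cfsg.Agent.RuLattice.AutGraph

/-!
The automorphism group of the lattice modulo the units is the group on 4060 points.
-/

set_option autoImplicit false
set_option maxRecDepth 100000

namespace Cfsg.Agent.RuLattice

open Cfsg.Spor Cfsg.Agent.CosetEnum Cfsg.Agent.SporB.Ru

/-- Permutations keeping membership of the tabulated vectors. -/
def memPerm : Subgroup (Equiv.Perm Pt) where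
  carrier := {σ | ∀ i : Pt, lineX (σ i : Pt) ∈ lat ↔ lineX i ∈ lat}
  one_mem' _ := Iff.rfl
  mul_mem' {a b} ha hb i := (ha (b i)).trans (hb i)
  inv_mem' {a} ha i := by
    have h := ha (a⁻¹ i)
    rw [show a (a⁻¹ i) = i from Equiv.apply_symm_apply a i] at h
    exact h.symm

theorem letter0 : ∃ f ∈ fourRu, (∀ v : ruLattice, rv (f v) = quarter qRows0 (rv v)) ∧
    (∀ i < 4060, lineX i ∈ lat → lineX (act i 0) ∈ lat) ∧
    (∀ i < 4060, lineX (act i 0) ∈ lat → lineX i ∈ lat) ∧
    ∀ i < 4060, ∀ v : ruLattice, rv v = lineX i → ∃ e, rv (f v) = uI e (lineX (act i 0)) :=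
  letter_map keeps0 keeps1 orth01 orth10 comm0 pack0 carries0

theorem letter2 : ∃ f ∈ fourRu, (∀ v : ruLattice, rv (f v) = quarter qRows2 (rv v)) ∧
    (∀ i < 4060, lineX i ∈ lat → lineX (act i 2) ∈ lat) ∧
    (∀ i < 4060, lineX (act i 2) ∈ lat → lineX i ∈ lat) ∧
    ∀ i < 4060, ∀ v : ruLattice, rv v = lineX i → ∃ e, rv (f v) = uI e (lineX (act i 2)) :=
  letter_map keeps2 keeps3 orth23 orth32 comm2 pack2 carries2

theorem sg_le_memPerm : sg [0, 2] ≤ memPerm := sg_le fun l hl => by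
  have hl' : l < nl := by rcases list_cases2 hl with rfl | rfl <;> decide
  have key : (∀ i < 4060, lineX i ∈ lat → lineX (act i l) ∈ lat) ∧
      ∀ i < 4060, lineX (act i l) ∈ lat → lineX i ∈ lat := by
    rcases list_cases2 hl with rfl | rfl
    · obtain ⟨f, -, -, h1, h2, -⟩ := letter0; exact ⟨h1, h2⟩
    · obtain ⟨f, -, -, h1, h2, -⟩ := letter2; exact ⟨h1, h2⟩
  refine inv_mem_iff.mp fun i => ?_
  rw [val_inv_apply lettersOK hl']
  exact ⟨key.2 i i.isLt, key.1 i i.isLt⟩

theorem lineX_zero : lineX 0 = four 54 := funext fun k => by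
  rw [line_zero k, four, Pi.single_apply]

theorem line_mem (i : Pt) : lineX i ∈ lat := by
  obtain ⟨g, hg, hgi⟩ := g0_step.2.2 i
  have h := sg_le_memPerm hg (0 : Pt)
  rw [hgi] at h
  refine h.2 ?_
  show lineX 0 ∈ lat
  rw [lineX_zero]
  exact AddSubgroup.subset_closure (Or.inr ⟨54, rfl⟩)

/-- The lattice vector of a point. -/
def zvec (i : Pt) : ruLattice := mkL (lineX i) (line_mem i)

theorem rv_zvec (i : Pt) : rv (zvec i) = lineX i := rv_mkL _ _

/-- An automorphism carries the lines by a permutation. -/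
def Induces (f : Equiv.Perm ruLattice) (σ : Equiv.Perm Pt) : Prop :=
  ∀ i : Pt, ∃ e, rv (f (zvec i)) = uI e (lineX (σ i : Pt))

theorem induces_mul {f g : Equiv.Perm ruLattice} {σ τ : Equiv.Perm Pt} (hf : f ∈ fourRu)
    (h : Induces f σ) (h' : Induces g τ) : Induces (f * g) (σ * τ) := fun i => by
  obtain ⟨b, hb⟩ := h' i
  obtain ⟨a, ha⟩ := h (τ i)
  refine ⟨b + a, ?_⟩
  rw [Equiv.Perm.mul_apply, map_uI hf b (zvec (τ i)) _ (by rw [hb, rv_zvec]), ha, ← uI_add]
  rfl

/-- The permutations induced by automorphisms. -/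
def liftPerm : Subgroup (Equiv.Perm Pt) where
  carrier := {σ | ∃ f ∈ fourRu, Induces f σ}
  one_mem' := ⟨1, one_mem _, fun i => ⟨0, rv_zvec i⟩⟩
  mul_mem' := fun ⟨f, hf, h⟩ ⟨g, hg, h'⟩ => ⟨f * g, mul_mem hf hg, induces_mul hf h h'⟩
  inv_mem' := fun {σ} ⟨f, hf, h⟩ => ⟨f⁻¹, inv_mem hf, fun i => by
    obtain ⟨e, he⟩ := h (σ⁻¹ i)
    rw [show σ (σ⁻¹ i) = i from Equiv.apply_symm_apply σ i] at he
    refine ⟨4 - e % 4, ?_⟩
    have hz : rv (zvec i) = uI (4 - e % 4) (rv (f (zvec (σ⁻¹ i)))) := by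
      rw [he, uI_cancel, rv_zvec]
    rw [map_uI (inv_mem hf) _ _ _ hz, show f⁻¹ (f (zvec (σ⁻¹ i))) = zvec (σ⁻¹ i) from
      Equiv.symm_apply_apply f _, rv_zvec]⟩

theorem sg_le_liftPerm : sg [0, 2] ≤ liftPerm := sg_le fun l hl => by
  have hl' : l < nl := by rcases list_cases2 hl with rfl | rfl <;> decide
  obtain ⟨f, hf, hm⟩ : ∃ f ∈ fourRu, ∀ i < 4060, ∀ v : ruLattice, rv v = lineX i →
      ∃ e, rv (f v) = uI e (lineX (act i l)) := by
    rcases list_cases2 hl with rfl | rfl
    · obtain ⟨f, hf, -, -, -, h⟩ := letter0; exact ⟨f, hf, h⟩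
    · obtain ⟨f, hf, -, -, -, h⟩ := letter2; exact ⟨f, hf, h⟩
  refine inv_mem_iff.mp ⟨f, hf, fun i => ?_⟩
  rw [val_inv_apply lettersOK hl']
  exact hm i i.isLt _ (rv_zvec i)

/-- An element of the group moving a point to the first, with an inducing automorphism. -/
theorem exists_to_zero (i : Pt) : ∃ h ∈ sg [0, 2], h i = 0 ∧ ∃ f ∈ fourRu, Induces f h := by
  obtain ⟨g, hg, hgi⟩ := g0_step.2.2 i
  refine ⟨g⁻¹, inv_mem hg, ?_, sg_le_liftPerm (inv_mem hg)⟩
  rw [← hgi]
  exact Equiv.symm_apply_apply g 0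

theorem row0_orth (j : Pt) : adj rows 0 j = true ↔ orth (lineX 0) (lineX j) := by
  have h := allRange_spec row0_ok j (Nat.zero_le _) (by omega)
  rw [row0OK, forceNat_eq, Bool.and_eq_true, beq_iff_eq] at h
  rw [h.1, Bool.and_eq_true, orth_symm, orth, lineX_zero, dot_four, dot_four, mapI_partner,
    show partner 54 = 55 from by decide +kernel]
  simp only [Nat.beq_eq, lineX, unitV, unitN]
  norm_num
  omega

theorem dot_line (i : Pt) : dot (lineX i) (lineX i) = 16 := by
  obtain ⟨h, -, hi, f, hf, hind⟩ := exists_to_zero i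
  obtain ⟨e, he⟩ := hind i
  have := dot_fourRu hf (zvec i) (zvec i)
  rw [he, dot_uI, rv_zvec, hi] at this
  rw [← this, Fin.val_zero, lineX_zero, dot_four]
  simp [four]

theorem orth_line (i j : Pt) : adj rows i j = true ↔ orth (lineX i) (lineX j) := by
  obtain ⟨h, hh, hi, f, hf, hind⟩ := exists_to_zero i
  have hA : h ∈ autG rows := by rw [autG_eq]; exact hh
  obtain ⟨a, ha⟩ := hind i
  obtain ⟨b, hb⟩ := hind j
  rw [← hA i j, hi, ← rv_zvec i, ← rv_zvec j, ← orth_fourRu hf, ha, hb, orth_uI, hi]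
  exact row0_orth (h j)

theorem uI_fix {x : Vec} (hx : dot x x ≠ 0) {c : ℕ} (h : uI c x = x) : c % 4 = 0 := by
  rw [uI_mod] at h
  have h4 : c % 4 < 4 := Nat.mod_lt _ (by norm_num)
  have hself := dot_mapI_self x
  rcases (show c % 4 = 0 ∨ c % 4 = 1 ∨ c % 4 = 2 ∨ c % 4 = 3 by omega) with e | e | e | e <;>
    rw [e] at h
  · exact e
  · exfalso
    rw [uI_one] at h
    rw [h] at hself
    exact hx hself
  · exfalso
    have : -x = x := by rw [← mapI_mapI]; exact h
    have := congrArg (fun y => dot y x) this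
    simp only [dot_neg_left] at this
    omega
  · exfalso
    have h' : mapI x = x := by
      conv_lhs => rw [← h]
      exact uI_four x
    rw [h'] at hself
    exact hx hself

theorem zero_units : ∀ d : Fin 4, unitV (lineN 0) d.val 54 ≤ -4 ∨ 4 ≤ unitV (lineN 0) d.val 54 ∨
    unitV (lineN 0) d.val 55 ≤ -4 ∨ 4 ≤ unitV (lineN 0) d.val 55 := by decide +kernel

theorem line_eq {i j : Pt} {c : ℕ} (h : uI c (lineX i) = lineX j) : i = j ∧ c % 4 = 0 := by
  suffices hij : i = j by
    subst hij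
    exact ⟨rfl, uI_fix (by rw [dot_line]; norm_num) h⟩
  obtain ⟨g, -, hi, f, hf, hind⟩ := exists_to_zero i
  obtain ⟨a, ha⟩ := hind i
  obtain ⟨b, hb⟩ := hind j
  have hc := map_uI hf c (zvec i) (zvec j) (by rw [rv_zvec, rv_zvec, h])
  rw [ha, hb, ← uI_add, hi] at hc
  have h2 : lineX (g j : Pt) = uI (4 - b % 4 + (c + a)) (lineX 0) := by
    rw [uI_add, ← uI_cancel b (lineX (g j : Pt)), hc]
    rfl
  rw [uI_mod, uI_line 0 (Nat.mod_lt _ (by norm_num))] at h2
  refine g.injective (hi.trans ?_)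
  by_contra hne
  have hj : (g j : Pt).val ≠ 0 := fun e => hne (Fin.ext e.symm)
  have hr := allRange_spec row0_ok (g j : Pt).val (Nat.zero_le _) (by omega)
  rw [row0OK, forceNat_eq, Bool.and_eq_true, Bool.or_eq_true] at hr
  have hr2 := hr.2.resolve_left fun e => hj (Nat.eq_of_beq_eq_true e)
  simp only [Bool.and_eq_true] at hr2
  obtain ⟨⟨⟨r1, r2⟩, r3⟩, r4⟩ := hr2
  have r1 := Nat.le_of_ble_eq_true r1
  have r2 := Nat.le_of_ble_eq_true r2
  have r3 := Nat.le_of_ble_eq_true r3
  have r4 := Nat.le_of_ble_eq_true r4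
  have hz := zero_units ⟨(4 - b % 4 + (c + a)) % 4, Nat.mod_lt _ (by norm_num)⟩
  rw [← h2] at hz
  simp only [lineX, unitV, unitN, show ((54 : Fin 56) : ℕ) = 54 from rfl,
    show ((55 : Fin 56) : ℕ) = 55 from rfl] at hz
  omega

theorem norm16_point {v : ruLattice} (h : dot (rv v) (rv v) = 16) :
    ∃ j : Pt, ∃ e, rv v = uI e (lineX j) := by
  obtain ⟨i, hi, e, he, h⟩ := norm16_line (rv_mem v) h
  exact ⟨⟨i, hi⟩, e, h.trans (uI_line i he).symm⟩

theorem exists_image (f : fourRu) (i : Pt) :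
    ∃ j : Pt, ∃ e, rv ((f : Equiv.Perm ruLattice) (zvec i)) = uI e (lineX j) :=
  norm16_point (by rw [dot_fourRu f.2, rv_zvec, dot_line])

/-- The image point. -/
noncomputable def imagePt (f : fourRu) (i : Pt) : Pt := (exists_image f i).choose

theorem imagePt_eq {f : fourRu} {i j : Pt} {e : ℕ}
    (h : rv ((f : Equiv.Perm ruLattice) (zvec i)) = uI e (lineX j)) : imagePt f i = j := by
  obtain ⟨e', h'⟩ := (exists_image f i).choose_spec
  have h2 : uI (4 - e' % 4 + e) (lineX j) = lineX (exists_image f i).choose := by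
    rw [uI_add, h.symm.trans h', uI_cancel]
  exact (line_eq h2).1.symm

theorem imagePt_injective (f : fourRu) : Function.Injective (imagePt f) := by
  intro i i' h
  obtain ⟨a, ha⟩ := (exists_image f i).choose_spec
  obtain ⟨b, hb⟩ := (exists_image f i').choose_spec
  change rv _ = uI a (lineX (imagePt f i)) at ha
  change rv _ = uI b (lineX (imagePt f i')) at hb
  rw [← h] at hb
  have hz : rv ((f : Equiv.Perm ruLattice) (zvec i')) =
      uI (b + (4 - a % 4)) (rv ((f : Equiv.Perm ruLattice) (zvec i))) := by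
    rw [ha, hb, uI_add, uI_cancel]
  have := map_uI (inv_mem f.2) _ _ _ hz
  rw [show (f : Equiv.Perm ruLattice)⁻¹ ((f : Equiv.Perm ruLattice) (zvec i')) = zvec i' from
      Equiv.symm_apply_apply _ _,
    show (f : Equiv.Perm ruLattice)⁻¹ ((f : Equiv.Perm ruLattice) (zvec i)) = zvec i from
      Equiv.symm_apply_apply _ _, rv_zvec, rv_zvec] at this
  exact (line_eq this.symm).1

/-- The permutation of the points. -/
noncomputable def toPerm (f : fourRu) : Equiv.Perm Pt :=
  Equiv.ofBijective _ (Finite.injective_iff_bijective.1 (imagePt_injective f))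

theorem toPerm_induces (f : fourRu) : Induces (f : Equiv.Perm ruLattice) (toPerm f) :=
  fun i => (exists_image f i).choose_spec

theorem toPerm_eq {f : fourRu} {σ : Equiv.Perm Pt} (h : Induces (f : Equiv.Perm ruLattice) σ) :
    toPerm f = σ := Equiv.ext fun i => imagePt_eq (h i).choose_spec

/-- The action on the points. -/
noncomputable def permRep : fourRu →* Equiv.Perm Pt :=
  MonoidHom.mk' toPerm fun f g => toPerm_eq (induces_mul f.2 (toPerm_induces f) (toPerm_induces g))

theorem permRep_range : permRep.range = sg [0, 2] := by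
  refine le_antisymm ?_ ?_
  · rintro _ ⟨f, rfl⟩
    rw [← autG_eq]
    intro i j
    rw [Bool.eq_iff_iff, orth_line, orth_line]
    obtain ⟨a, ha⟩ := toPerm_induces f i
    obtain ⟨b, hb⟩ := toPerm_induces f j
    show orth (lineX (toPerm f i : Pt)) (lineX (toPerm f j : Pt)) ↔ _
    rw [← orth_uI a b, ← ha, ← hb, orth_fourRu f.2, rv_zvec, rv_zvec]
  · intro σ hσ
    obtain ⟨f, hf, h⟩ := sg_le_liftPerm hσ
    exact ⟨⟨f, hf⟩, toPerm_eq h⟩

theorem uI_addVec (e : ℕ) (x y : Vec) : uI e (x + y) = uI e x + uI e y := by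
  induction e with
  | zero => rfl
  | succ e ih => rw [Nat.add_comm, uI_add, uI_one, ih, map_add, uI_add, uI_add, uI_one, uI_one]

theorem scalar_eq {x y : Vec} {a b : ℕ} (hne : ¬ orth x y)
    (h1 : dot (uI a x) (uI b y) = dot x y) (h2 : dot (mapI (uI a x)) (uI b y) = dot (mapI x) y) :
    a % 4 = b % 4 := by
  have e1 := dot_uI (4 - b % 4) (uI a x) (uI b y)
  have e2 := dot_uI (4 - b % 4) (mapI (uI a x)) (uI b y)
  rw [uI_cancel, h1, ← uI_add] at e1
  rw [uI_cancel, h2, ← uI_one, ← uI_add, ← uI_add, uI_mod] at e2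
  rw [uI_mod] at e1
  set d := (4 - b % 4 + a) % 4 with hd
  have hd' : (4 - b % 4 + 1 + a) % 4 = (1 + d) % 4 := by omega
  rw [hd', ← uI_mod, uI_add, uI_one] at e2
  rcases (show d = 0 ∨ d = 1 ∨ d = 2 ∨ d = 3 by omega) with e | e | e | e
  · omega
  all_goals exfalso; apply hne; rw [orth]; rw [e] at e1 e2
  · rw [uI_one] at e1 e2
    rw [mapI_mapI, dot_neg_left] at e2
    omega
  · rw [show uI 2 x = mapI (mapI x) from rfl, mapI_mapI] at e1 e2
    simp only [map_neg, dot_neg_left] at e1 e2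
    omega
  · simp only [show uI 3 x = mapI (mapI (mapI x)) from rfl, mapI_mapI, map_neg, dot_neg_left,
      neg_neg] at e1 e2
    omega

theorem four_odd : ∀ k : Fin 28, ∀ l : Fin 56,
    mapI (four ⟨2 * k.val, by omega⟩) l = four ⟨2 * k.val + 1, by omega⟩ l := by decide +kernel

theorem ker_scalar {f : fourRu} (h : toPerm f = 1) :
    ∃ c, ∀ v : ruLattice, rv ((f : Equiv.Perm ruLattice) v) = uI c (rv v) := by
  set F : Equiv.Perm ruLattice := (f : Equiv.Perm ruLattice)
  have hline : ∀ v : ruLattice, dot (rv v) (rv v) = 16 → ∃ c, rv (F v) = uI c (rv v) := by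
    intro v hv
    obtain ⟨m, e, he⟩ := norm16_point hv
    obtain ⟨a, ha⟩ := toPerm_induces f m
    rw [h] at ha
    refine ⟨a, ?_⟩
    rw [map_uI f.2 e (zvec m) v (by rw [rv_zvec, he]), ha, he, ← uI_add, ← uI_add, Nat.add_comm]
    rfl
  let fourL : Fin 56 → ruLattice := fun l =>
    mkL (four l) (AddSubgroup.subset_closure (Or.inr ⟨l, rfl⟩))
  have hfour : ∀ l, rv (fourL l) = four l := fun l => rv_mkL _ _
  have hn : ∀ l, dot (rv (fourL l)) (rv (fourL l)) = 16 := fun l => by
    rw [hfour, dot_four]; simp [four]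
  obtain ⟨c, hc⟩ := hline _ (hn 0)
  rw [hfour] at hc
  refine ⟨c, ?_⟩
  have hev : ∀ k : Fin 28, rv (F (fourL ⟨2 * k.val, by omega⟩)) = uI c (four ⟨2 * k.val, by omega⟩) := by
    intro k
    obtain ⟨hm, hn0, hnk⟩ := link_ok k
    set m : Pt := ⟨linkL.getD k.val 0, hm⟩
    obtain ⟨w, hw⟩ := hline (zvec m) (by rw [rv_zvec, dot_line])
    rw [rv_zvec] at hw
    have key : ∀ (l : Fin 56), l.val % 2 = 0 →
        (nib (lineN m.val) l.val ≠ 8 ∨ nib (lineN m.val) (l.val + 1) ≠ 8) →
        ∀ d, rv (F (fourL l)) = uI d (four l) → d % 4 = w % 4 := by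
      intro l hl hne d hd
      refine scalar_eq (x := four l) (y := lineX m.val) ?_ ?_ ?_
      · intro ho
        rw [orth_symm, orth, dot_four, dot_four, mapI_apply, if_pos hl] at ho
        obtain ⟨h1, h2⟩ := ho
        have hp : (posn (place l).1 (place l).2.1 1).val = l.val + 1 := by
          rw [(place_val l).2.2.2]; omega
        simp only [lineX, unitV, unitN, hp] at h1 h2
        omega
      · rw [← hd, ← hw, dot_fourRu f.2, hfour, rv_zvec]
      · rw [← hd, ← rv_I, ← f.2.2.1, ← hw, dot_fourRu f.2, rv_I, hfour, rv_zvec]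
    obtain ⟨d, hd⟩ := hline _ (hn ⟨2 * k.val, by omega⟩)
    rw [hfour] at hd
    have e1 := key 0 rfl hn0 c hc
    have e2 := key ⟨2 * k.val, by omega⟩ (by simp) hnk d hd
    rw [hd, uI_mod d, uI_mod c, e1, e2]
  have hall : ∀ l, rv (F (fourL l)) = uI c (four l) := by
    intro l
    rcases Nat.mod_two_eq_zero_or_one l.val with hl | hl
    · have := hev ⟨l.val / 2, by omega⟩
      have e : (⟨2 * (l.val / 2), by omega⟩ : Fin 56) = l := Fin.ext (by simp; omega)
      rwa [e] at this
    · have hk := hev ⟨l.val / 2, by omega⟩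
      have e : (⟨2 * (l.val / 2) + 1, by omega⟩ : Fin 56) = l := Fin.ext (by simp; omega)
      have hI : mapI (four ⟨2 * (l.val / 2), by omega⟩) = four l :=
        (funext (four_odd ⟨l.val / 2, by omega⟩)).trans (congrArg four e)
      have hfl : fourL l = ruI (fourL ⟨2 * (l.val / 2), by omega⟩) :=
        rv_injective (by rw [rv_I, hfour, hfour, hI])
      rw [hfl, f.2.2.1, rv_I, hk, ← hI, ← uI_one, ← uI_one, ← uI_add, ← uI_add, Nat.add_comm]
  let D : ruLattice →+ Vec :=
    AddMonoidHom.mk' (fun v => rv (F v) - uI c (rv v)) fun v w => by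
      show rv (F (v + w)) - uI c (rv (v + w)) = _
      rw [f.2.1, rv_add, rv_add, uI_addVec]
      abel
  intro v
  have hD : ∀ l, D (fourL l) = 0 := fun l => by
    show rv (F (fourL l)) - uI c (rv (fourL l)) = 0
    rw [hall, hfour, sub_self]
  have h4 : (4 : ℤ) • v = ∑ l, rv v l • fourL l := by
    let R : ruLattice →+ Vec := AddMonoidHom.mk' rv rv_add
    apply rv_injective
    show R _ = R _
    rw [map_zsmul, map_sum]
    simp only [map_zsmul]
    show (4 : ℤ) • rv v = ∑ l, rv v l • rv (fourL l)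
    funext k
    rw [Finset.sum_apply, Finset.sum_eq_single k]
    · simp [hfour, four, mul_comm]
    · intro b _ hb; simp [hfour, four, Pi.single_eq_of_ne (Ne.symm hb)]
    · simp
  have h0 := congrArg D h4
  rw [map_zsmul, map_sum] at h0
  simp only [map_zsmul, hD, smul_zero, Finset.sum_const_zero] at h0
  exact sub_eq_zero.1 ((smul_eq_zero.1 h0).resolve_left (by norm_num) : D v = 0)

theorem exists_unit (c : ℕ) : ∃ f : fourRu,
    ∀ v : ruLattice, rv ((f : Equiv.Perm ruLattice) v) = uI c (rv v) := by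
  obtain ⟨f, hf, h⟩ := exists_fourRu (uI c) (uI (4 - c % 4)) (fun x hx => uI_mem hx c)
    (fun x hx => uI_mem hx _) (fun x _ => uI_cancel c x)
    (fun x _ => by rw [← uI_add, Nat.add_comm, uI_add, uI_cancel]) (fun x _ y _ => uI_addVec c x y)
    (fun x _ => by rw [← uI_one, ← uI_one, ← uI_add, ← uI_add, Nat.add_comm])
    (fun x _ => dot_uI c x x)
  exact ⟨⟨f, hf⟩, h⟩

theorem simple_center : Subgroup.center ↥(sg [0, 2]) = ⊥ := by
  rcases simple_H.eq_bot_or_eq_top_of_normal (Subgroup.center ↥(sg [0, 2])) inferInstance with h | h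
  · exact h
  · exfalso
    letI : CommGroup ↥(sg [0, 2]) :=
      { (inferInstance : Group ↥(sg [0, 2])) with
        mul_comm := fun a b => (Subgroup.mem_center_iff.1 (h ▸ Subgroup.mem_top a) b).symm }
    haveI : IsSimpleGroup ↥(sg [0, 2]) := simple_H
    have hp := IsSimpleGroup.prime_card (α := ↥(sg [0, 2]))
    rw [g0_step.1] at hp
    norm_num at hp

theorem mem_center_iff_ker {f : fourRu} : f ∈ Subgroup.center fourRu ↔ toPerm f = 1 := by
  constructor
  · intro h
    have hmem : toPerm f ∈ sg [0, 2] := by rw [← permRep_range]; exact ⟨f, rfl⟩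
    have hc : (⟨toPerm f, hmem⟩ : sg [0, 2]) ∈ Subgroup.center ↥(sg [0, 2]) := by
      refine Subgroup.mem_center_iff.2 fun g => Subtype.ext ?_
      obtain ⟨g', hg'⟩ : (g : Equiv.Perm Pt) ∈ permRep.range := by rw [permRep_range]; exact g.2
      show (g : Equiv.Perm Pt) * permRep f = permRep f * g
      rw [← hg', ← map_mul, ← map_mul, Subgroup.mem_center_iff.1 h g']
    rw [simple_center, Subgroup.mem_bot] at hc
    exact congrArg Subtype.val hc
  · intro h
    obtain ⟨c, hc⟩ := ker_scalar h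
    refine Subgroup.mem_center_iff.2 fun g => Subtype.ext (Equiv.ext fun v => rv_injective ?_)
    show rv ((g : Equiv.Perm ruLattice) ((f : Equiv.Perm ruLattice) v)) =
      rv ((f : Equiv.Perm ruLattice) ((g : Equiv.Perm ruLattice) v))
    rw [hc, map_uI g.2 c v _ (hc v)]

theorem card_center_fourRu : Nat.card ↥(Subgroup.center fourRu) = 4 := by
  choose u hu using exists_unit
  have hmem : ∀ c, u c ∈ Subgroup.center fourRu := fun c => by
    rw [mem_center_iff_ker]
    exact toPerm_eq fun i => ⟨c, by rw [hu, rv_zvec]; rfl⟩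
  let g : Fin 4 → Subgroup.center fourRu := fun c => ⟨u c.val, hmem c.val⟩
  have hg : Function.Bijective g := by
    constructor
    · intro a b e
      have h : uI a.val (lineX (0 : Pt)) = uI b.val (lineX (0 : Pt)) := by
        rw [← rv_zvec, ← hu, ← hu, show u a.val = u b.val from congrArg Subtype.val e]
      have h2 : uI (4 - b.val % 4 + a.val) (lineX (0 : Pt)) = lineX (0 : Pt) := by
        rw [uI_add, h, uI_cancel]
      have := (line_eq h2).2
      exact Fin.ext (by omega)
    · rintro ⟨f, hf⟩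
      obtain ⟨c, hc⟩ := ker_scalar (mem_center_iff_ker.1 hf)
      refine ⟨⟨c % 4, Nat.mod_lt _ (by norm_num)⟩, Subtype.ext (Subtype.ext (Equiv.ext fun v =>
        rv_injective ?_))⟩
      show rv ((u (c % 4) : Equiv.Perm ruLattice) v) = rv ((f : Equiv.Perm ruLattice) v)
      rw [hu, hc, ← uI_mod]
  rw [← Nat.card_congr (Equiv.ofBijective g hg), Nat.card_fin]

theorem nonempty_ruEquiv : Nonempty (Ru ≃* ↥(sg [0, 2])) := by
  let ψ : fourRu →* ↥(sg [0, 2]) :=
    permRep.codRestrict _ fun f => by rw [← permRep_range]; exact ⟨f, rfl⟩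
  have hsurj : Function.Surjective ψ := fun g => by
    obtain ⟨f, hf⟩ : (g : Equiv.Perm Pt) ∈ permRep.range := by rw [permRep_range]; exact g.2
    exact ⟨f, Subtype.ext hf⟩
  have hker : Subgroup.center fourRu = ψ.ker := by
    ext f
    rw [mem_center_iff_ker, MonoidHom.mem_ker]
    exact ⟨fun h => Subtype.ext h, fun h => congrArg Subtype.val h⟩
  exact ⟨(QuotientGroup.quotientMulEquivOfEq hker).trans
    (QuotientGroup.quotientKerEquivOfSurjective ψ hsurj)⟩

theorem card_ru : Nat.card Ru = 145926144000 := by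
  obtain ⟨e⟩ := nonempty_ruEquiv
  rw [Nat.card_congr e.toEquiv, g0_step.1]

theorem simple_ru : IsSimpleGroup Ru := by
  obtain ⟨e⟩ := nonempty_ruEquiv
  haveI : IsSimpleGroup ↥(sg [0, 2]) := simple_H
  haveI : Nontrivial Ru := e.toEquiv.nontrivial
  exact IsSimpleGroup.isSimpleGroup_of_surjective e.symm.toMonoidHom e.symm.surjective

end Cfsg.Agent.RuLattice
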