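import Cfsg.Agent.RuLattice.Span
import Cfsg.Agent.RuLattice.Line

/-!
Multiplication by the units on the real coordinates, and automorphisms of the lattice read there.
-/

set_option autoImplicit false
set_option maxRecDepth 100000

namespace Cfsg.Agent.RuLattice

open Cfsg.Spor

/-- The other coordinate of the same complex entry. -/
def partner (k : Fin 56) : Fin 56 :=
  if k.val % 2 = 0 then posn (place k).1 (place k).2.1 1 else posn (place k).1 (place k).2.1 0

theorem partner_spec : ∀ k : Fin 56, partner (partner k) = k ∧ (partner k).val % 2 = 1 - k.val % 2 := by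
  decide +kernel

theorem mapI_partner (x : Vec) (k : Fin 56) :
    mapI x k = (if k.val % 2 = 0 then -1 else 1) * x (partner k) := by
  rw [mapI_apply, partner]
  split <;> simp

theorem mapI_mapI (x : Vec) : mapI (mapI x) = -x := by
  funext k
  obtain ⟨h1, h2⟩ := partner_spec k
  rw [mapI_partner, mapI_partner, h1, h2, Pi.neg_apply]
  rcases Nat.mod_two_eq_zero_or_one k.val with h | h <;> rw [h] <;> simp

theorem dot_mapI (x y : Vec) : dot (mapI x) (mapI y) = dot x y := by
  have hp : Function.Involutive partner := fun k => (partner_spec k).1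
  rw [dot, dot]
  refine Fintype.sum_equiv hp.toPerm _ _ fun k => ?_
  rw [mapI_partner, mapI_partner, Function.Involutive.coe_toPerm]
  split <;> ring

theorem dot_mapI_right (x y : Vec) : dot x (mapI y) = -dot (mapI x) y := by
  have h := dot_mapI x (mapI y)
  rw [mapI_mapI, dot_comm, dot_neg_left, dot_comm y] at h
  omega

theorem dot_mapI_self (x : Vec) : dot (mapI x) x = 0 := by
  have h := dot_mapI_right x x
  rw [dot_comm] at h
  omega

theorem mapI_mem {x : Vec} (hx : x ∈ lat) : mapI x ∈ lat := map_lat mapI okI hx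

/-- A power of multiplication by `i`. -/
def uI (e : ℕ) (x : Vec) : Vec := mapI^[e] x

theorem uI_add (a b : ℕ) (x : Vec) : uI (a + b) x = uI a (uI b x) := Function.iterate_add_apply _ a b x

theorem uI_zero (x : Vec) : uI 0 x = x := rfl

theorem uI_one (x : Vec) : uI 1 x = mapI x := rfl

theorem uI_four (x : Vec) : uI 4 x = x := by
  show mapI (mapI (mapI (mapI x))) = x
  rw [mapI_mapI, mapI_mapI]
  simp

theorem uI_mod (e : ℕ) (x : Vec) : uI e x = uI (e % 4) x := by
  induction e using Nat.strongRecOn with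
  | _ e ih =>
    by_cases h : e < 4
    · rw [Nat.mod_eq_of_lt h]
    · rw [show e = 4 + (e - 4) by omega, uI_add, uI_four, ih (e - 4) (by omega),
        show (4 + (e - 4)) % 4 = (e - 4) % 4 by omega]

theorem uI_cancel (e : ℕ) (x : Vec) : uI (4 - e % 4) (uI e x) = x := by
  rw [← uI_add, uI_mod, show (4 - e % 4 + e) % 4 = 0 by omega, uI_zero]

theorem uI_line (i : ℕ) : ∀ {e : ℕ}, e < 4 → uI e (lineX i) = unitV (lineN i) e
  | 0, _ => rfl
  | e + 1, h => by
    rw [Nat.add_comm, uI_add, uI_one, uI_line i (Nat.lt_of_succ_lt h),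
      mapI_unitV _ (Nat.lt_of_succ_lt h), Nat.mod_eq_of_lt h, Nat.add_comm]

theorem uI_mem {x : Vec} (hx : x ∈ lat) : ∀ e, uI e x ∈ lat
  | 0 => hx
  | e + 1 => by rw [Nat.add_comm, uI_add, uI_one]; exact mapI_mem (uI_mem hx e)

theorem uI_zsmul (e : ℕ) (c : ℤ) (x : Vec) : uI e (c • x) = c • uI e x := by
  induction e with
  | zero => rfl
  | succ e ih => rw [Nat.add_comm, uI_add, uI_one, ih, map_zsmul, uI_add, uI_one]

theorem dot_uI (e : ℕ) (x y : Vec) : dot (uI e x) (uI e y) = dot x y := by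
  induction e with
  | zero => rfl
  | succ e ih => rw [Nat.add_comm, uI_add, uI_add, uI_one, uI_one, dot_mapI, ih]

/-- Orthogonality over the Gaussian integers. -/
def orth (x y : Vec) : Prop := dot x y = 0 ∧ dot (mapI x) y = 0

theorem orth_uI_left (e : ℕ) (x y : Vec) : orth (uI e x) y ↔ orth x y := by
  induction e with
  | zero => rfl
  | succ e ih =>
    rw [Nat.add_comm, uI_add, uI_one, ← ih, orth, orth, mapI_mapI, dot_neg_left, neg_eq_zero, and_comm]

theorem orth_symm (x y : Vec) : orth x y ↔ orth y x := by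
  rw [orth, orth, dot_comm x y, dot_comm (mapI x) y, dot_mapI_right, neg_eq_zero]

theorem orth_uI (a b : ℕ) (x y : Vec) : orth (uI a x) (uI b y) ↔ orth x y := by
  rw [orth_uI_left, orth_symm, orth_uI_left, orth_symm]

/-- The real coordinates read back. -/
def ofVec (x : Vec) : RuVec := fun p => ⟨x (posn p.1 p.2 0), x (posn p.1 p.2 1)⟩

theorem toVec_ofVec (x : Vec) : toVec (ofVec x) = x := by
  funext k
  obtain ⟨-, h, -⟩ := place_val k
  rw [toVec_apply]
  conv_rhs => rw [← h]
  generalize (place k).2.2 = b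
  fin_cases b <;> rfl

/-- A lattice vector read in real coordinates. -/
def rv (v : ruLattice) : Vec := toVec (v : RuVec)

theorem rv_mem (v : ruLattice) : rv v ∈ lat := toVec_mem v.2

theorem rv_injective : Function.Injective rv := fun _ _ h => Subtype.ext (toVec_injective h)

theorem rv_add (v w : ruLattice) : rv (v + w) = rv v + rv w := map_add toVec _ _

theorem rv_I (v : ruLattice) : rv (ruI v) = mapI (rv v) := toVec_gI _

theorem ruNorm_rv (v : ruLattice) : ruNorm (v : RuVec) = dot (rv v) (rv v) := ruNorm_eq _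

/-- A lattice vector from its real coordinates. -/
def mkL (x : Vec) (hx : x ∈ lat) : ruLattice :=
  ⟨ofVec x, mem_ruLattice_iff.2 (by rw [toVec_ofVec]; exact hx)⟩

theorem rv_mkL (x : Vec) (hx : x ∈ lat) : rv (mkL x hx) = x := toVec_ofVec x

/-- An automorphism of the lattice from mutually inverse maps of the coordinates. -/
theorem exists_fourRu (F G : Vec → Vec) (hF : ∀ x ∈ lat, F x ∈ lat) (hG : ∀ x ∈ lat, G x ∈ lat)
    (hGF : ∀ x ∈ lat, G (F x) = x) (hFG : ∀ x ∈ lat, F (G x) = x)
    (hadd : ∀ x ∈ lat, ∀ y ∈ lat, F (x + y) = F x + F y)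
    (hI : ∀ x ∈ lat, F (mapI x) = mapI (F x)) (hdot : ∀ x ∈ lat, dot (F x) (F x) = dot x x) :
    ∃ f ∈ fourRu, ∀ v : ruLattice, rv (f v) = F (rv v) := by
  let f : Equiv.Perm ruLattice :=
    { toFun := fun v => mkL (F (rv v)) (hF _ (rv_mem v))
      invFun := fun v => mkL (G (rv v)) (hG _ (rv_mem v))
      left_inv := fun v => rv_injective (by rw [rv_mkL, rv_mkL, hGF _ (rv_mem v)])
      right_inv := fun v => rv_injective (by rw [rv_mkL, rv_mkL, hFG _ (rv_mem v)]) }
  have hf : ∀ v, rv (f v) = F (rv v) := fun v => rv_mkL _ (hF _ (rv_mem v))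
  refine ⟨f, ⟨fun v w => rv_injective ?_, fun v => rv_injective ?_, fun v => ?_⟩, hf⟩
  · rw [hf, rv_add, hadd _ (rv_mem v) _ (rv_mem w), rv_add, hf, hf]
  · rw [hf, rv_I, hI _ (rv_mem v), rv_I, hf]
  · rw [ruNorm_rv, ruNorm_rv, hf, hdot _ (rv_mem v)]

variable {f : Equiv.Perm ruLattice}

theorem dot_fourRu (hf : f ∈ fourRu) (v w : ruLattice) : dot (rv (f v)) (rv (f w)) = dot (rv v) (rv w) := by
  have pol : ∀ x y : Vec, dot (x + y) (x + y) = dot x x + dot y y + 2 * dot x y := fun x y => by
    rw [dot_add_left, dot_comm x (x + y), dot_comm y (x + y), dot_add_left, dot_add_left, dot_comm y x]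
    ring
  have h := hf.2.2 (v + w)
  have hv := hf.2.2 v
  have hw := hf.2.2 w
  rw [ruNorm_rv, ruNorm_rv, hf.1, rv_add, rv_add, pol, pol] at h
  rw [ruNorm_rv, ruNorm_rv] at hv hw
  omega

theorem orth_fourRu (hf : f ∈ fourRu) (v w : ruLattice) :
    orth (rv (f v)) (rv (f w)) ↔ orth (rv v) (rv w) := by
  rw [orth, orth, dot_fourRu hf, ← rv_I, ← hf.2.1, dot_fourRu hf, rv_I]

theorem map_uI (hf : f ∈ fourRu) : ∀ (e : ℕ) (v w : ruLattice), rv w = uI e (rv v) →
    rv (f w) = uI e (rv (f v))
  | 0, v, w, h => by rw [rv_injective (h : rv w = rv v)]; rfl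
  | e + 1, v, w, h => by
    have h' : rv w = mapI (rv (mkL (uI e (rv v)) (uI_mem (rv_mem v) e))) := by
      rw [h, Nat.add_comm, uI_add, uI_one, rv_mkL]
    rw [← rv_I] at h'
    rw [rv_injective h', hf.2.1, rv_I, map_uI hf e v _ (rv_mkL _ _), Nat.add_comm, uI_add, uI_one]

end Cfsg.Agent.RuLattice
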