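import Cfsg.Agent.RuLattice.Maps
import Cfsg.Agent.RuLattice.Units
import Cfsg.Agent.RuLattice.Images.Check0_0
import Cfsg.Agent.RuLattice.Images.Check0_1
import Cfsg.Agent.RuLattice.Images.Check2_0
import Cfsg.Agent.RuLattice.Images.Check2_1

/-!
The two letters are induced by automorphisms of the lattice.
-/

set_option autoImplicit false
set_option maxRecDepth 100000

namespace Cfsg.Agent.RuLattice

open Cfsg.Spor Cfsg.Agent.CosetEnum

theorem combP_eq (N : ℕ) (m : ℕ → ℕ → ℕ) : ∀ (P : List ℕ) (k : ℕ),
    (∀ t < P.length, P.getD t 0 = pkF 56 (m t)) →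
    combP N P k = pkF 56 fun j => ∑ t ∈ Finset.range P.length, nib N (k + t) * m t j
  | [], k, _ => by
    show 0 = _
    rw [pkF_congr 56 _ (fun _ => 0) (fun t _ => by simp)]
    decide +kernel
  | q :: P, k, h => by
    show forceNat (combP N P (k + 1)) (fun r => nib N k * q + r) = _
    have h0 := h 0 (by simp)
    rw [List.getD_cons_zero] at h0
    rw [forceNat_eq, combP_eq N (fun t => m (t + 1)) P (k + 1) fun t ht => by
        simpa using h (t + 1) (by simpa using ht), h0, pkF_mul, pkF_add]
    refine pkF_congr 56 _ _ fun j _ => ?_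
    rw [List.length_cons, Finset.sum_range_succ' _ P.length, Nat.add_comm]
    simp only [Nat.add_zero, Nat.add_assoc, Nat.add_comm 1]

theorem targetP_eq (M e S : ℕ) : ∀ (C : List ℕ) (k : ℕ),
    targetP M e S C k = pkF C.length fun t => 4 * unitN M e (k + t) + 8 * S + 8 * C.getD t 0
  | [], _ => rfl
  | c :: C, k => by
    show forceNat (targetP M e S C (k + 1))
      (fun r => 4 * unitN M e k + 8 * S + 8 * c + 32768 * r) = _
    rw [forceNat_eq, targetP_eq M e S C (k + 1), List.length_cons, pkF]
    simp only [List.getD_cons_zero, List.getD_cons_succ, Nat.add_zero]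
    congr 2
    exact pkF_congr _ _ _ fun t _ => by rw [show k + 1 + t = k + (t + 1) by omega]

theorem digitSum_eq (N : ℕ) : digitSum N = ∑ t ∈ Finset.range 56, nib N t := by
  have : ∀ n, Nat.rec (motive := fun _ => ℕ) 0 (fun k ih => forceNat ih fun r => nib N k + r) n =
      ∑ t ∈ Finset.range n, nib N t := by
    intro n
    induction n with
    | zero => rfl
    | succ n ih => rw [Finset.sum_range_succ]; show forceNat _ _ = _; rw [forceNat_eq, ih, Nat.add_comm]
  exact this 56

theorem unitN_le (M e k : ℕ) : unitN M e k ≤ 16 := by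
  have := nib_le M (k + 1)
  have := nib_le M (k - 1)
  have := nib_le M k
  unfold unitN
  split <;> (try cases (Nat.beq (k % 2) 0)) <;> (try simp only [cond_true, cond_false]) <;> omega

theorem image_eq {P C L : List ℕ} (hp : packOK P C L) {l i : ℕ} (h : imageOK P C l i = true) :
    mapQ L (lineX i) = (4 : ℤ) • unitV (lineN (SporB.Ru.act i l)) (phase l i) := by
  obtain ⟨hP, hC, hPk, hCj⟩ := hp
  simp only [imageOK, forceNat_eq] at h
  have h := Nat.eq_of_beq_eq_true h
  set N := lineN i
  set M := lineN (SporB.Ru.act i l)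
  set e := phase l i
  rw [combP_eq N (fun t j => nib (L.getD t 0) j) P 0 (fun t ht => hPk ⟨t, hP ▸ ht⟩), hP, onesP,
    pkF_mul, pkF_add, targetP_eq, hC, digitSum_eq] at h
  have hb := pkF_inj 56 _ _ (fun t _ => ?_) (fun t ht => ?_) h
  rotate_left
  · have : ∀ u, nib N (0 + u) * nib (L.getD u 0) t ≤ 225 := fun u =>
      (Nat.mul_le_mul (nib_le N _) (nib_le _ t)).trans (by norm_num)
    have hs := Finset.sum_le_card_nsmul (Finset.range 56) _ 225 fun u _ => this u
    rw [Finset.card_range, smul_eq_mul] at hs
    omega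
  · have hs := Finset.sum_le_card_nsmul (Finset.range 56) (fun u => nib N u) 15 fun u _ => nib_le N u
    rw [Finset.card_range, smul_eq_mul] at hs
    have hc : C.getD t 0 ≤ 840 := by
      rw [hCj ⟨t, ht⟩]
      refine (Finset.sum_le_card_nsmul _ _ 15 fun u _ => nib_le _ _).trans ?_
      simp
    have := unitN_le M e (0 + t)
    omega
  funext j
  have hj := hb j.val j.isLt
  simp only [Nat.zero_add, Nat.mul_one] at hj
  rw [Finset.sum_range] at hj
  rw [Finset.sum_range (fun t => nib N t), hCj j] at hj
  rw [mapQ_apply, Pi.smul_apply, smul_eq_mul, unitV]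
  have hx : ∀ k : Fin 56, lineX i k * qe L k j = ((nib N k.val * nib (L.getD k.val 0) j.val : ℕ) : ℤ) -
      8 * (nib N k.val : ℤ) - 8 * (nib (L.getD k.val 0) j.val : ℤ) + 64 := fun k => by
    show ((nib N k.val : ℤ) - 8) * ((nib (L.getD k.val 0) j.val : ℤ) - 8) = _
    push_cast
    ring
  simp only [hx, Finset.sum_add_distrib, Finset.sum_sub_distrib, ← Finset.mul_sum, ← Nat.cast_sum,
    Finset.sum_const, Finset.card_univ, Fintype.card_fin, nsmul_eq_mul]
  omega

theorem uI_phase (l i j : ℕ) : uI (phase l i) (lineX j) = unitV (lineN j) (phase l i) :=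
  uI_line j (Nat.lt_succ_of_le Nat.and_le_right)

theorem quarter_line {P C L : List ℕ} (hp : packOK P C L) {l i : ℕ} (h : imageOK P C l i = true) :
    quarter L (lineX i) = uI (phase l i) (lineX (SporB.Ru.act i l)) := by
  funext j
  rw [uI_phase, quarter, image_eq hp h, Pi.smul_apply, smul_eq_mul,
    Int.mul_ediv_cancel_left _ (by norm_num)]

theorem carries0 : ∀ i < 4060, imageOK qPack0 qSum0 0 i = true := fun i hi => by
  by_cases h : i < 2030
  · exact allRange_spec images0_0 i (Nat.zero_le _) (by omega)
  · exact allRange_spec images0_1 i (by omega) (by omega)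

theorem carries2 : ∀ i < 4060, imageOK qPack2 qSum2 2 i = true := fun i hi => by
  by_cases h : i < 2030
  · exact allRange_spec images2_0 i (Nat.zero_le _) (by omega)
  · exact allRange_spec images2_1 i (by omega) (by omega)

theorem quarter_inverse {L M : List ℕ} {C4 CI C4' CI' : List (List (ℕ × ℕ))}
    (hk : keepsOK L C4 CI) (hk' : keepsOK M C4' CI') (h : orthOK L M) {x : Vec} (hx : x ∈ lat) :
    quarter M (quarter L x) = x := by
  obtain ⟨hm, he⟩ := keeps hk hx
  obtain ⟨-, he'⟩ := keeps hk' hm
  have e := mapQ_mapQ h x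
  rw [he, map_zsmul, he'] at e
  funext j
  have := congrFun e j
  simp only [Pi.smul_apply, smul_eq_mul] at this
  omega

theorem letter_map {L M P C : List ℕ} {l : ℕ} {C4 CI C4' CI' : List (List (ℕ × ℕ))}
    (hk : keepsOK L C4 CI) (hk' : keepsOK M C4' CI') (h : orthOK L M) (h' : orthOK M L) (hc : commOK L)
    (hp : packOK P C L) (himg : ∀ i < 4060, imageOK P C l i = true) :
    ∃ f ∈ fourRu, (∀ v : ruLattice, rv (f v) = quarter L (rv v)) ∧
      (∀ i < 4060, lineX i ∈ lat → lineX (SporB.Ru.act i l) ∈ lat) ∧
      (∀ i < 4060, lineX (SporB.Ru.act i l) ∈ lat → lineX i ∈ lat) ∧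
      ∀ i < 4060, ∀ v : ruLattice, rv v = lineX i →
        ∃ e, rv (f v) = uI e (lineX (SporB.Ru.act i l)) := by
  obtain ⟨f, hf, hfe⟩ := exists_fourRu (quarter L) (quarter M) (fun x hx => (keeps hk hx).1)
    (fun x hx => (keeps hk' hx).1) (fun x hx => quarter_inverse hk hk' h hx)
    (fun x hx => quarter_inverse hk' hk h' hx) (fun x hx y hy => by
      have hxy := (keeps hk (add_mem hx hy)).2
      rw [map_add, (keeps hk hx).2, (keeps hk hy).2] at hxy
      funext j
      have := congrFun hxy j
      simp only [Pi.add_apply, Pi.smul_apply, smul_eq_mul] at this ⊢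
      omega)
    (fun x hx => by
      have hix := (keeps hk (mapI_mem hx)).2
      rw [mapQ_mapI hc, (keeps hk hx).2, map_zsmul] at hix
      funext j
      have := congrFun hix j
      simp only [Pi.smul_apply, smul_eq_mul] at this
      omega)
    (fun x hx => by
      have hd := dot_mapQ h x x
      rw [(keeps hk hx).2] at hd
      have e : ∀ a : Vec, dot ((4 : ℤ) • a) ((4 : ℤ) • a) = 16 * dot a a := fun a => by
        simp only [dot, Pi.smul_apply, smul_eq_mul, Finset.mul_sum]
        exact Finset.sum_congr rfl fun k _ => by ring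
      rw [e] at hd
      omega)
  refine ⟨f, hf, hfe, fun i hi hx => ?_, fun i hi hy => ?_, fun i hi v hv =>
    ⟨phase l i, by rw [hfe, hv, quarter_line hp (himg i hi)]⟩⟩
  · have := (keeps hk hx).1
    rw [quarter_line hp (himg i hi)] at this
    have h2 := uI_mem this (4 - phase l i % 4)
    rwa [uI_cancel] at h2
  · set j := SporB.Ru.act i l
    have hu := uI_mem hy (phase l i)
    have e1 := image_eq hp (himg i hi)
    rw [← uI_phase] at e1
    have e2 := congrArg (mapQ M) e1
    rw [mapQ_mapQ h, map_zsmul, (keeps hk' hu).2] at e2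
    have : lineX i = quarter M (uI (phase l i) (lineX j)) := funext fun k => by
      have := congrFun e2 k
      simp only [Pi.smul_apply, smul_eq_mul] at this
      omega
    rw [this]
    exact (keeps hk' hu).1

end Cfsg.Agent.RuLattice
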