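import Cfsg.Agent.RuLattice.Line
import Cfsg.Agent.RuLattice.LiftData

/-!
Four integral matrices whose quotients by 4 are orthogonal maps of the lattice commuting with multiplication by `i`.
-/

set_option autoImplicit false
set_option Elab.async false
set_option maxRecDepth 100000

namespace Cfsg.Agent.RuLattice

/-- The entries of a matrix given by packed rows. -/
def qe (L : List ℕ) (k j : Fin 56) : ℤ := (nib (L.getD k.val 0) j.val : ℤ) - 8

/-- The map of a matrix. -/
def mapQ (L : List ℕ) : Vec →+ Vec where
  toFun x j := ∑ k, x k * qe L k j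
  map_zero' := funext fun j => by simp
  map_add' x y := funext fun j => by simp [add_mul, Finset.sum_add_distrib]

theorem mapQ_apply (L : List ℕ) (x : Vec) (j : Fin 56) : mapQ L x j = ∑ k, x k * qe L k j := rfl

/-- A matrix keeps the lattice: certificates modulo 4. -/
def keepsOK (L : List ℕ) (C4 CI : List (List (ℕ × ℕ))) : Prop :=
  (∀ k : Fin 56, ((C4.getD k.val []).all fun p => decide (p.2 < 40)) = true ∧
    ∀ j : Fin 56, (qe L k j - comb (C4.getD k.val []) j) % 4 = 0) ∧
  ∀ i : Fin 40, ((CI.getD i.val []).all fun p => decide (p.2 < 40)) = true ∧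
    ∀ j : Fin 56, mapQ L (row i) j % 4 = 0 ∧ (mapQ L (row i) j / 4 - comb (CI.getD i.val []) j) % 4 = 0

theorem keeps0 : keepsOK qRows0 qFour0 qImg0 := by unfold keepsOK; decide +kernel
theorem keeps1 : keepsOK qRows1 qFour1 qImg1 := by unfold keepsOK; decide +kernel
theorem keeps2 : keepsOK qRows2 qFour2 qImg2 := by unfold keepsOK; decide +kernel
theorem keeps3 : keepsOK qRows3 qFour3 qImg3 := by unfold keepsOK; decide +kernel

/-- The matrices are transposes of each other with orthogonal rows of norm 16. -/
def orthOK (L M : List ℕ) : Prop :=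
  (∀ k j : Fin 56, qe M k j = qe L j k) ∧
    ∀ k k' : Fin 56, ∑ j, qe L k j * qe L k' j = if k = k' then 16 else 0

theorem orth01 : orthOK qRows0 qRows1 := by unfold orthOK; decide +kernel
theorem orth10 : orthOK qRows1 qRows0 := by unfold orthOK; decide +kernel
theorem orth23 : orthOK qRows2 qRows3 := by unfold orthOK; decide +kernel
theorem orth32 : orthOK qRows3 qRows2 := by unfold orthOK; decide +kernel

/-- The matrix commutes with multiplication by `i`. -/
def commOK (L : List ℕ) : Prop :=
  ∀ k j : Fin 56, (if k.val % 2 = 0 then qe L (posn (place k).1 (place k).2.1 1) j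
      else -qe L (posn (place k).1 (place k).2.1 0) j) = mapI (qe L k) j

theorem comm0 : commOK qRows0 := by unfold commOK; decide +kernel
theorem comm1 : commOK qRows1 := by unfold commOK; decide +kernel
theorem comm2 : commOK qRows2 := by unfold commOK; decide +kernel
theorem comm3 : commOK qRows3 := by unfold commOK; decide +kernel

end Cfsg.Agent.RuLattice
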