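import Cfsg.Agent.RuLattice.MapChecks

/-!
Four integral matrices whose quotients by 4 are orthogonal maps of the lattice commuting with multiplication by `i`.
-/

set_option autoImplicit false
set_option maxRecDepth 100000

namespace Cfsg.Agent.RuLattice

/-- A quarter of the image. -/
def quarter (L : List ℕ) (x : Vec) : Vec := fun j => mapQ L x j / 4

theorem keeps {L : List ℕ} {C4 CI : List (List (ℕ × ℕ))} (h : keepsOK L C4 CI) {x : Vec}
    (hx : x ∈ lat) : quarter L x ∈ lat ∧ mapQ L x = (4 : ℤ) • quarter L x := by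
  suffices hh : ∃ y ∈ lat, mapQ L x = (4 : ℤ) • y by
    obtain ⟨y, hy, e⟩ := hh
    have : quarter L x = y := funext fun j => by
      show mapQ L x j / 4 = y j
      rw [e, Pi.smul_apply, smul_eq_mul, Int.mul_ediv_cancel_left _ (by norm_num)]
    exact this ▸ ⟨hy, e⟩
  induction hx using AddSubgroup.closure_induction with
  | mem a ha =>
    rcases ha with ⟨i, rfl⟩ | ⟨k, rfl⟩
    · exact ⟨fun j => mapQ L (row i) j / 4, mem_of_congr _ (h.2 i).1 fun j => ((h.2 i).2 j).2,
        funext fun j => by
          rw [Pi.smul_apply, smul_eq_mul]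
          exact (Int.mul_ediv_cancel' (Int.dvd_of_emod_eq_zero ((h.2 i).2 j).1)).symm⟩
    · refine ⟨fun j => qe L k j, mem_of_congr _ (h.1 k).1 (h.1 k).2, funext fun j => ?_⟩
      rw [mapQ_apply, Finset.sum_eq_single k]
      · simp [four]
      · intro b _ hb; simp [four, Pi.single_eq_of_ne hb]
      · simp
  | zero => exact ⟨0, zero_mem _, by simp⟩
  | add a b _ _ ha hb =>
    obtain ⟨y, hy, ey⟩ := ha
    obtain ⟨z, hz, ez⟩ := hb
    exact ⟨y + z, add_mem hy hz, by rw [map_add, ey, ez, smul_add]⟩
  | neg a _ ha =>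
    obtain ⟨y, hy, ey⟩ := ha
    exact ⟨-y, neg_mem hy, by rw [map_neg, ey, smul_neg]⟩



theorem mapQ_mapQ {L M : List ℕ} (h : orthOK L M) (x : Vec) : mapQ M (mapQ L x) = (16 : ℤ) • x := by
  funext l
  simp only [mapQ_apply, Finset.sum_mul, Pi.smul_apply, smul_eq_mul]
  rw [Finset.sum_comm, Finset.sum_eq_single l]
  · have := h.2 l l
    rw [if_pos rfl] at this
    rw [← this, Finset.sum_mul]
    exact Finset.sum_congr rfl fun j _ => by rw [h.1 j l]; ring
  · intro k _ hk
    have e : (∑ j, x k * qe L k j * qe M j l) = x k * ∑ j, qe L k j * qe L l j := by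
      rw [Finset.mul_sum]
      exact Finset.sum_congr rfl fun j _ => by rw [h.1 j l]; ring
    rw [e, h.2, if_neg hk, mul_zero]
  · simp

theorem dot_mapQ {L M : List ℕ} (h : orthOK L M) (x y : Vec) :
    dot (mapQ L x) (mapQ L y) = 16 * dot x y := by
  have e : ∀ a b : Vec, dot (mapQ L a) b = dot a (mapQ M b) := fun a b => by
    simp only [dot, mapQ_apply, Finset.sum_mul, Finset.mul_sum]
    rw [Finset.sum_comm]
    exact Finset.sum_congr rfl fun k _ => Finset.sum_congr rfl fun j _ => by rw [h.1 j k]; ring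
  rw [e, mapQ_mapQ h, dot, dot, Finset.mul_sum]
  exact Finset.sum_congr rfl fun k _ => by rw [Pi.smul_apply, smul_eq_mul]; ring


theorem mapI_single : ∀ k j : Fin 56, mapI (Pi.single k 1) j = if k.val % 2 = 0
    then (if j = posn (place k).1 (place k).2.1 1 then 1 else 0)
    else (if j = posn (place k).1 (place k).2.1 0 then -1 else 0) := by
  decide +kernel

theorem mapQ_mapI {L : List ℕ} (h : commOK L) (x : Vec) : mapQ L (mapI x) = mapI (mapQ L x) := by
  have e : (mapQ L).comp mapI = mapI.comp (mapQ L) := by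
    refine AddMonoidHom.functions_ext _ _ _ fun k n => ?_
    have h1 : (mapQ L).comp mapI (Pi.single k 1) = mapI.comp (mapQ L) (Pi.single k 1) := by
      funext j
      have hq : mapQ L (Pi.single k 1) = qe L k := funext fun l => by
        rw [mapQ_apply, Finset.sum_eq_single k]
        · simp
        · intro b _ hb; simp [Pi.single_eq_of_ne hb]
        · simp
      show mapQ L (mapI (Pi.single k 1)) j = mapI (mapQ L (Pi.single k 1)) j
      rw [hq, ← h k j, mapQ_apply]
      simp only [mapI_single]
      by_cases hk : k.val % 2 = 0 <;> simp only [hk, if_true, if_false] <;>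
        simp [ite_mul, Finset.sum_ite_eq']
    rw [show (Pi.single k n : Vec) = n • Pi.single k 1 by rw [← Pi.single_smul]; simp, map_zsmul,
      map_zsmul, h1]
  exact DFunLike.congr_fun e x

end Cfsg.Agent.RuLattice
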