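import Mathlib.Data.Nat.Notation

/-!
Rows of the integral lattice as combinations of monomial images of the generating vectors, modulo 4.
-/

set_option autoImplicit false

namespace Cfsg.Agent.RuLattice

/-- The images equal to four times a unit vector. -/
def frameImgs : List (ℕ × List ℕ) := [
  (0, []), (0, [0]), (0, [3, 1, 0]), (0, [1]), (0, [3, 2, 0]), (0, [2]), (0, [1, 2, 0]), (0, [2, 1]), (0, [4, 4, 4, 4, 4, 4]), (0, [4, 4, 4, 4, 4, 4, 0]), (0, [4, 4, 4, 4, 4, 4, 3, 1, 0]), (0, [4, 4, 4, 4, 4, 4, 1]), (0, [4, 4, 4, 4, 4, 4, 3, 2, 0]), (0, [4, 4, 4, 4, 4, 4, 2]), (0, [4, 4, 4, 4, 4, 4, 1, 2, 0]), (0, [4, 4, 4, 4, 4, 4, 2, 1]), (0, [4, 4, 4, 4, 4]), (0, [4, 4, 4, 4, 4, 0]), (0, [4, 4, 4, 4, 4, 3, 1, 0]), (0, [4, 4, 4, 4, 4, 1]), (0, [4, 4, 4, 4, 4, 3, 2, 0]), (0, [4, 4, 4, 4, 4, 2]), (0, [4, 4, 4, 4, 4, 1, 2, 0]), (0, [4, 4, 4, 4, 4, 2, 1]),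 (0, [4, 4, 4, 4]), (0, [4, 4, 4, 4, 0]), (0, [4, 4, 4, 4, 3, 1, 0]), (0, [4, 4, 4, 4, 1]), (0, [4, 4, 4, 4, 3, 2, 0]), (0, [4, 4, 4, 4, 2]), (0, [4, 4, 4, 4, 1, 2, 0]), (0, [4, 4, 4, 4, 2, 1]), (0, [4, 4, 4]), (0, [4, 4, 4, 0]), (0, [4, 4, 4, 3, 1, 0]), (0, [4, 4, 4, 1]), (0, [4, 4, 4, 3, 2, 0]), (0, [4, 4, 4, 2]), (0, [4, 4, 4, 1, 2, 0]), (0, [4, 4, 4, 2, 1]), (0, [4, 4]), (0, [4, 4, 0]), (0, [4, 4, 3, 1, 0]), (0, [4, 4, 1]), (0, [4, 4, 3, 2, 0]), (0, [4, 4, 2]), (0, [4, 4, 1, 2, 0]), (0, [4, 4, 2, 1]), (0, [4]), (0, [4, 0]), (0, [4, 3, 1, 0]), (0, [4, 1]), (0, [4, 3, 2, 0]), (0, [4, 2]), (0, [4, 1, 2, 0]), (0, [4, 2, 1])]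

/-- The images used. -/
def usedImgs : List (ℕ × List ℕ) := [
  (1, []), (2, []), (3, []), (5, []), (6, []), (7, []), (8, []), (9, []), (10, []), (11, []), (12, []), (13, []), (14, []), (15, []), (16, []), (17, []), (18, []), (19, []), (1, [0]), (1, [1]), (1, [2]), (1, [4]), (2, [0]), (2, [1]), (2, [2]), (2, [4]), (3, [0]), (3, [1]), (3, [2]), (3, [4]), (5, [0]), (5, [1]), (5, [2]), (5, [4]), (6, [0]), (6, [1]), (6, [2]), (6, [4]), (7, [4]), (5, [4, 4])]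

/-- The coefficients for each row. -/
def spanCert : List (List (ℕ × ℕ)) := [
  [(1, 0), (1, 2), (3, 3), (3, 4), (3, 5), (3, 6), (1, 7), (1, 9), (3, 11), (3, 12), (1, 13), (1, 14), (3, 15), (1, 16), (3, 17), (1, 19), (2, 20), (3, 21), (1, 23), (3, 24), (1, 25), (2, 26), (1, 28), (2, 30), (2, 31), (2, 33), (2, 38)],
  [(2, 0), (1, 1), (1, 2), (2, 4), (3, 5), (2, 6), (2, 7), (3, 11), (3, 13), (3, 15), (1, 16), (2, 18), (2, 19), (3, 22), (1, 23), (1, 29), (1, 30), (2, 31), (3, 32), (3, 33), (1, 39)],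
  [(2, 0), (2, 1), (3, 3), (3, 4), (2, 5), (2, 6), (2, 7), (3, 8), (2, 11), (1, 12), (2, 13), (1, 14), (3, 15), (2, 16), (2, 19), (2, 20), (3, 21), (1, 22), (1, 23), (3, 24), (2, 26), (1, 27), (3, 29), (2, 30), (3, 31), (1, 32), (3, 33), (1, 34), (3, 37), (3, 38)],
  [(1, 0), (3, 1), (3, 2), (1, 4), (3, 5), (3, 7), (1, 8), (1, 9), (1, 10), (2, 11), (2, 12), (1, 13), (1, 14), (2, 16), (3, 17), (3, 18), (3, 19), (2, 20), (3, 21), (2, 22), (1, 23), (3, 24), (1, 25), (1, 26), (2, 29), (1, 31), (3, 32), (3, 33), (2, 37), (2, 39)],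
  [(2, 0), (2, 1), (3, 3), (2, 4), (2, 6), (2, 7), (1, 9), (2, 11), (3, 12), (3, 13), (1, 14), (3, 15), (3, 16), (1, 18), (3, 19), (3, 20), (2, 21), (2, 22), (3, 24), (3, 25), (1, 30), (1, 31), (3, 32), (3, 33), (3, 34), (1, 35), (2, 37), (3, 38), (1, 39)],
  [(3, 1), (1, 2), (1, 3), (2, 6), (1, 7), (1, 8), (1, 9), (3, 12), (3, 13), (1, 14), (2, 16), (3, 17), (1, 18), (1, 19), (3, 21), (2, 22), (3, 24), (1, 25), (2, 26), (2, 29), (3, 30), (1, 31), (2, 32), (2, 33), (3, 37), (3, 38), (3, 39)],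
  [(2, 0), (2, 1), (2, 4), (1, 5), (2, 6), (3, 7), (3, 8), (1, 10), (2, 11), (3, 12), (3, 14), (3, 15), (3, 16), (2, 18), (1, 19), (1, 21), (3, 22), (3, 25), (1, 26), (1, 29), (3, 30), (3, 32), (1, 36), (1, 37), (1, 38)],
  [(1, 0), (1, 1), (2, 3), (2, 5), (1, 6), (2, 7), (3, 8), (1, 9), (2, 11), (1, 12), (1, 13), (3, 14), (2, 19), (1, 20), (2, 22), (3, 23), (3, 25), (1, 26), (1, 27), (1, 28), (3, 29), (2, 31), (3, 33), (1, 34), (1, 36), (3, 37)],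
  [(3, 0), (1, 2), (3, 3), (2, 4), (1, 5), (2, 7), (1, 8), (3, 10), (2, 12), (1, 13), (3, 14), (2, 16), (3, 17), (3, 18), (1, 19), (3, 20), (1, 21), (2, 24), (3, 25), (3, 26), (1, 28), (3, 29), (1, 30), (3, 31), (3, 33), (3, 34), (1, 35), (1, 36), (1, 37)],
  [(2, 1), (2, 2), (3, 3), (3, 4), (3, 6), (3, 8), (3, 9), (2, 11), (3, 12), (3, 13), (1, 16), (3, 18), (1, 19), (3, 20), (3, 21), (2, 22), (2, 24), (3, 25), (3, 26), (3, 27), (1, 28), (3, 29), (2, 30), (3, 31), (2, 32), (1, 35)],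
  [(2, 1), (2, 3), (3, 4), (1, 5), (1, 6), (2, 7), (1, 8), (2, 9), (2, 11), (1, 12), (3, 13), (3, 15), (2, 16), (3, 17), (3, 18), (2, 19), (3, 21), (3, 22), (1, 23), (3, 24), (1, 25), (1, 27), (1, 28), (2, 29), (3, 31), (3, 32), (1, 37), (3, 38)],
  [(3, 2), (1, 4), (3, 5), (2, 7), (2, 9), (2, 11), (2, 15), (3, 16), (3, 17), (1, 19), (3, 22), (3, 24), (3, 25), (3, 26), (3, 27), (3, 29), (2, 30), (1, 31), (3, 32), (1, 35), (1, 36), (2, 37)],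
  [(3, 0), (3, 1), (2, 2), (2, 3), (2, 5), (1, 6), (1, 7), (1, 8), (3, 9), (1, 10), (2, 11), (2, 12), (2, 13), (1, 14), (3, 15), (2, 16), (2, 18), (3, 20), (1, 22), (3, 24), (3, 26), (1, 27), (2, 29), (2, 30), (3, 32), (3, 33), (3, 37), (2, 38)],
  [(2, 0), (3, 2), (1, 4), (3, 5), (3, 6), (3, 7), (2, 8), (3, 9), (3, 10), (2, 12), (1, 13), (3, 17), (1, 18), (1, 19), (2, 20), (2, 21), (2, 22), (2, 24), (3, 25), (1, 26), (3, 27), (1, 28), (2, 29), (3, 30), (1, 31), (1, 32), (3, 34), (1, 35), (1, 36), (2, 38)],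
  [(3, 0), (2, 2), (2, 3), (3, 4), (1, 5), (3, 6), (1, 7), (1, 8), (2, 9), (1, 10), (1, 11), (1, 12), (3, 13), (3, 14), (1, 16), (3, 17), (3, 18), (1, 20), (3, 21), (2, 22), (1, 24), (1, 26), (1, 27), (1, 32), (1, 36)],
  [(1, 0), (2, 2), (3, 3), (3, 4), (1, 6), (2, 7), (3, 8), (2, 9), (1, 11), (2, 12), (3, 13), (1, 14), (2, 16), (1, 18), (2, 20), (2, 22), (3, 25), (3, 26), (3, 29), (1, 30), (2, 31), (2, 32), (3, 33), (3, 34), (1, 35), (1, 38)],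
  [(3, 0), (3, 2), (3, 3), (2, 7), (3, 8), (1, 9), (3, 10), (3, 12), (3, 13), (1, 15), (3, 16), (2, 18), (3, 19), (2, 22), (1, 23), (3, 25), (3, 27), (1, 28), (3, 31), (2, 33), (1, 35)],
  [(3, 0), (1, 1), (3, 4), (1, 5), (2, 6), (3, 7), (3, 9), (3, 12), (1, 13), (1, 15), (2, 16), (3, 17), (3, 18), (3, 20), (3, 21), (1, 22), (3, 23), (1, 24), (1, 28), (1, 30), (3, 32), (2, 33), (1, 34), (1, 36), (2, 38)],
  [(3, 0), (1, 1), (1, 2), (2, 3), (2, 4), (1, 5), (3, 6), (3, 7), (1, 8), (3, 9), (3, 10), (3, 11), (1, 12), (1, 13), (1, 15), (2, 16), (3, 17), (3, 18), (3, 20), (1, 21), (3, 22), (3, 27), (2, 29), (1, 30), (1, 33), (3, 34), (1, 35), (1, 38)],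
  [(3, 0), (2, 1), (1, 5), (2, 6), (1, 7), (3, 8), (3, 9), (3, 11), (1, 12), (3, 13), (3, 17), (3, 18), (3, 19), (3, 20), (3, 21), (2, 22), (3, 23), (1, 24), (1, 26), (1, 27), (1, 29), (3, 30), (1, 32), (2, 33), (1, 34), (1, 36)],
  [(3, 0), (3, 1), (2, 2), (2, 3), (2, 4), (2, 6), (2, 11), (2, 12), (2, 13), (1, 20), (1, 21), (3, 22), (2, 24), (1, 26), (1, 28), (3, 29), (2, 31), (2, 32)],
  [(3, 1), (1, 2), (3, 3), (1, 4), (3, 5), (2, 7), (1, 8), (3, 11), (3, 12), (1, 13), (2, 16), (3, 17), (2, 18), (2, 19), (2, 20), (2, 22), (3, 24), (1, 25), (2, 26), (1, 28), (1, 29), (2, 30)],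
  [(1, 0), (1, 2), (3, 3), (2, 4), (2, 6), (3, 8), (1, 13), (3, 15), (2, 18), (3, 19), (2, 20), (3, 21), (2, 22), (1, 23), (1, 29), (2, 33)],
  [(1, 2), (1, 3), (2, 4), (3, 6), (3, 7), (1, 8), (2, 11), (2, 12), (3, 13), (3, 14), (3, 15), (2, 16), (3, 17), (2, 18), (1, 19), (1, 22), (1, 24), (3, 26), (1, 27), (2, 30), (2, 31), (1, 32), (2, 33), (1, 36)],
  [(2, 0), (1, 1), (1, 2), (3, 3), (1, 4), (1, 6), (3, 8), (1, 9), (3, 10), (1, 12), (2, 13), (2, 15), (3, 16), (3, 18), (2, 19), (1, 20), (2, 22), (1, 23), (3, 24), (3, 25), (1, 26), (1, 28), (2, 29), (3, 31), (2, 32), (2, 33), (1, 35)],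
  [(1, 0), (3, 1), (2, 2), (1, 4), (3, 5), (2, 6), (3, 8), (3, 10), (1, 11), (2, 12), (2, 13), (1, 15), (2, 18), (3, 20), (2, 22), (1, 23), (3, 24), (3, 25), (1, 28), (3, 31), (2, 33), (1, 35)],
  [(2, 0), (3, 1), (1, 2), (1, 3), (3, 5), (3, 6), (1, 7), (1, 9), (2, 11), (3, 12), (3, 13), (2, 15), (2, 16), (3, 17), (3, 18), (3, 19), (3, 20), (2, 21), (2, 22), (1, 23), (3, 24), (1, 25), (1, 26), (2, 29), (3, 30), (2, 32), (2, 33), (1, 34)],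
  [(2, 0), (3, 3), (3, 7), (3, 10), (3, 11), (1, 12), (2, 13), (3, 16), (3, 19), (1, 21), (1, 22), (3, 24), (3, 25), (1, 26), (3, 30), (1, 31), (2, 32), (3, 34), (1, 35)],
  [(1, 0), (2, 6), (1, 7), (1, 8), (1, 9), (1, 11), (3, 13), (3, 14), (1, 16), (3, 17), (2, 18), (1, 19), (3, 20), (1, 22), (1, 24), (3, 26), (3, 29), (2, 30), (2, 31), (1, 32), (2, 33), (1, 36)],
  [(1, 0), (1, 1), (3, 2), (2, 3), (3, 4), (3, 5), (2, 6), (2, 7), (3, 10), (3, 11), (2, 13), (3, 14), (1, 16), (3, 18), (1, 19), (2, 21), (3, 24), (2, 25), (3, 26), (3, 27), (2, 29), (1, 30), (3, 31), (1, 32), (2, 33), (3, 34), (1, 35), (1, 36)],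
  [(2, 1), (3, 3), (3, 4), (1, 5), (1, 6), (3, 7), (1, 8), (1, 9), (3, 10), (3, 11), (2, 12), (3, 13), (3, 15), (2, 16), (3, 17), (1, 18), (1, 19), (2, 22), (1, 23), (1, 24), (1, 26), (3, 27), (1, 29), (3, 30), (3, 31), (2, 32), (3, 34), (1, 35)],
  [(3, 0), (2, 1), (3, 2), (1, 3), (3, 4), (1, 5), (2, 6), (1, 8), (2, 9), (1, 11), (1, 12), (3, 13), (3, 17), (2, 18), (2, 19), (3, 20), (3, 21), (1, 22), (3, 24), (1, 25), (3, 26), (2, 30), (2, 31), (2, 32)],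
  [(2, 0), (1, 1), (2, 2), (2, 3), (1, 4), (1, 5), (3, 9), (3, 10), (3, 11), (2, 12), (2, 13), (3, 14), (2, 18), (3, 19), (3, 20), (2, 21), (3, 22), (2, 25), (1, 26), (3, 27), (1, 29), (3, 30), (1, 31), (1, 32), (2, 33), (3, 34), (1, 35), (1, 36)],
  [(1, 0), (3, 1), (1, 2), (1, 3), (3, 4), (2, 5), (3, 6), (2, 7), (2, 9), (3, 10), (2, 11), (1, 12), (2, 13), (3, 14), (1, 15), (3, 16), (3, 18), (2, 21), (3, 23), (2, 24), (2, 25), (3, 26), (3, 27), (1, 28), (1, 29), (1, 30), (3, 31), (1, 32), (2, 33), (3, 34), (1, 35), (1, 36)],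
  [(3, 1), (3, 2), (1, 4), (2, 5), (1, 6), (1, 7), (2, 9), (1, 11), (2, 12), (2, 13), (3, 14), (1, 15), (2, 16), (2, 19), (1, 21), (3, 22), (3, 23), (3, 25), (1, 26), (1, 28), (1, 29), (2, 31), (1, 32), (2, 33), (1, 36)],
  [(2, 0), (2, 1), (2, 2), (2, 9), (2, 12), (1, 18), (2, 19), (3, 20), (1, 22), (3, 24), (2, 26), (2, 30), (2, 31)],
  [(3, 0), (3, 1), (2, 3), (2, 4), (2, 6), (2, 7), (2, 11), (2, 12), (2, 13), (2, 16), (1, 18), (2, 19), (1, 24), (3, 26), (1, 28), (2, 30), (2, 32)],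
  [(2, 0), (2, 2), (2, 4), (2, 6), (2, 7), (2, 16), (1, 18), (2, 19), (1, 20), (1, 22), (3, 24), (2, 26), (2, 30), (2, 31)],
  [(1, 1), (1, 2), (2, 3), (2, 6), (2, 9), (2, 11), (2, 13), (2, 18), (2, 19), (2, 22), (3, 24), (2, 26), (1, 28), (2, 30)],
  [(2, 2), (2, 3), (2, 4), (2, 7), (2, 11), (2, 12), (2, 13), (2, 16), (2, 18), (2, 19), (2, 20), (2, 22), (2, 26), (2, 30)]]

end Cfsg.Agent.RuLattice
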