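import Cfsg.Agent.RuLattice.Closed
import Cfsg.Agent.RuLattice.SpanData

/-!
The lattice is exactly the set of vectors with real coordinates in the tabulated lattice.
-/

set_option autoImplicit false
set_option maxRecDepth 100000

namespace Cfsg.Agent.RuLattice

open Cfsg.Spor

/-- The five maps by number. -/
def mapN : ℕ → Vec → Vec
  | 0 => mapI
  | 1 => mapJ
  | 2 => mapK
  | 3 => mapS
  | _ => mapT

/-- The image of a generating vector under a word. -/
def img (p : ℕ × List ℕ) : Vec := p.2.foldr mapN (toVec (ruTable.getD p.1 0))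

/-- The combination of images at one coordinate. -/
def combImg (c : List (ℕ × ℕ)) (k : Fin 56) : ℤ :=
  (c.map fun q => (q.1 : ℤ) * img (usedImgs.getD q.2 (0, [])) k).sum

theorem frame_ok : ∀ k : Fin 56, (frameImgs.getD k.val (20, [])).1 < 20 ∧
    ∀ l : Fin 56, img (frameImgs.getD k.val (20, [])) l = if l = k then 4 else 0 := by
  decide +kernel

theorem used_ok : (usedImgs.all fun p => decide (p.1 < 20)) = true := by decide +kernel

theorem span_ok : ∀ j : Fin 40, ((spanCert.getD j.val []).all fun q => decide (q.2 < usedImgs.length)) = true ∧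
    ∀ k : Fin 56, (row j k - combImg (spanCert.getD j.val []) k) % 4 = 0 := by decide +kernel

/-- The image of the lattice. -/
noncomputable def realLat : AddSubgroup Vec := ruLattice.map toVec

theorem mem_ruLattice_iff_all {v : RuVec} : v ∈ ruLattice ↔ ∀ L ∈ ruClosed, v ∈ L := AddSubgroup.mem_sInf

theorem mapN_mem : ∀ (g : ℕ) {x : Vec}, x ∈ realLat → mapN g x ∈ realLat := by
  intro g x hx
  obtain ⟨v, hv, rfl⟩ := hx
  have hv := mem_ruLattice_iff_all.1 hv
  match g with
  | 0 => exact ⟨_, mem_ruLattice_iff_all.2 fun L hL => (hL.2 v (hv L hL)).1, toVec_gI v⟩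
  | 1 => exact ⟨_, mem_ruLattice_iff_all.2 fun L hL => (hL.2 v (hv L hL)).2.1, toVec_Rj v⟩
  | 2 => exact ⟨_, mem_ruLattice_iff_all.2 fun L hL => (hL.2 v (hv L hL)).2.2.1, toVec_Rk v⟩
  | 3 => exact ⟨_, mem_ruLattice_iff_all.2 fun L hL => (hL.2 v (hv L hL)).2.2.2.1, toVec_sign v⟩
  | _ + 4 => exact ⟨_, mem_ruLattice_iff_all.2 fun L hL => (hL.2 v (hv L hL)).2.2.2.2, toVec_shift v⟩

theorem img_mem {p : ℕ × List ℕ} (h : p.1 < 20) : img p ∈ realLat := by
  obtain ⟨i, w⟩ := p
  induction w with
  | nil =>
    refine ⟨_, mem_ruLattice_iff_all.2 fun L hL => hL.1 _ ?_, rfl⟩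
    rw [List.getD_eq_getElem _ _ (table_length ▸ h)]
    exact List.getElem_mem _
  | cons g w ih => exact mapN_mem g (ih h)

theorem four_mem_real (k : Fin 56) : four k ∈ realLat := by
  have h := frame_ok k
  have e : img (frameImgs.getD k.val (20, [])) = four k :=
    funext fun l => by rw [h.2 l, four, Pi.single_apply]
  exact e ▸ img_mem h.1

theorem real_of_dvd_four {w : Vec} (h : ∀ k, (4 : ℤ) ∣ w k) : w ∈ realLat := by
  have e : w = ∑ k, (w k / 4) • four k := by
    funext l
    rw [Finset.sum_apply, Finset.sum_eq_single l]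
    · simp only [four, Pi.smul_apply, Pi.single_eq_same, smul_eq_mul]
      exact (Int.ediv_mul_cancel (h l)).symm
    · intro b _ hb
      simp [four, Pi.single_eq_of_ne (Ne.symm hb)]
    · simp
  rw [e]
  exact sum_mem fun k _ => zsmul_mem (four_mem_real k) _

theorem combImg_mem : ∀ c : List (ℕ × ℕ), (∀ q ∈ c, q.2 < usedImgs.length) → combImg c ∈ realLat
  | [], _ => by
    rw [show combImg [] = 0 from funext fun k => rfl]
    exact zero_mem _
  | q :: c, h => by
    have e : combImg (q :: c) = (q.1 : ℤ) • img (usedImgs.getD q.2 (0, [])) + combImg c :=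
      funext fun k => by simp [combImg]
    rw [e]
    refine add_mem (zsmul_mem (img_mem ?_) _) (combImg_mem c fun r hr => h r (List.mem_cons_of_mem _ hr))
    have hq := h q List.mem_cons_self
    rw [List.getD_eq_getElem _ _ hq]
    exact of_decide_eq_true (List.all_eq_true.1 used_ok _ (List.getElem_mem hq))

theorem lat_le_real : lat ≤ realLat := by
  refine (AddSubgroup.closure_le _).2 ?_
  rintro a (⟨j, rfl⟩ | ⟨l, rfl⟩)
  · obtain ⟨h1, h2⟩ := span_ok j
    have hc := combImg_mem _ fun q hq => of_decide_eq_true (List.all_eq_true.1 h1 q hq)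
    have hw : row j - combImg (spanCert.getD j.val []) ∈ realLat :=
      real_of_dvd_four fun k => Int.dvd_of_emod_eq_zero (h2 k)
    simpa using add_mem hw hc
  · exact four_mem_real l

theorem toVec_injective : Function.Injective toVec := by
  intro v w h
  funext p
  obtain ⟨n, t⟩ := p
  have h0 := congrFun h (posn n t 0)
  have h1 := congrFun h (posn n t 1)
  simp only [toVec_apply, place_posn, part] at h0 h1
  simp at h0 h1
  exact Zsqrtd.ext h0 h1

theorem mem_ruLattice_iff {v : RuVec} : v ∈ ruLattice ↔ toVec v ∈ lat := by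
  refine ⟨toVec_mem, fun h => ?_⟩
  obtain ⟨w, hw, e⟩ := lat_le_real h
  rwa [toVec_injective e] at hw

end Cfsg.Agent.RuLattice
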